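import Cfsg.Agent.Omega.NOThree.Ru.DU
import Cfsg.Agent.MinSimple.VModule

/-!
# The plane configuration: the second class (section 4 of helper881's text #12858)

`Plane.second` : there is an involution `v` which is not conjugate to `z`, such that each involution of `C(v)` is in
`U` or has all its conjugates of `z` in `U`.
-/

set_option autoImplicit false

namespace Cfsg.Agent.Omega.NOThree.Ru

open Subgroup Cfsg Cfsg.Agent.MinSimple.Geo Code Cfsg.Agent.Omega.NOThree.Ru.Norm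
open Cfsg.Agent.ZN (o2)
open Cfsg.Agent.MinSimple.VModule (o2_isPGroup o2_le le_normalizer_o2)

universe u

variable {G : Type u} [Group G]

/-- the codes of the elements of `F` -/
def V3 : List ℕ := [61, 146, 175]

/-- the codes of the elements of `F U` -/
def V4 : List ℕ := [0, 61, 146, 175]

/-- the codes of the elements of `F` and the commutators with the generators -/
def CV : List (ℕ × List ℕ) :=
  [(61, [3, 6, 6, 7, 7, 5, 5, 1, 1, 2, 2, 4, 4, 3]), (146, [7, 5, 5, 1, 1, 2, 2, 4, 4, 3, 3, 6, 6, 7]),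
    (175, [4, 3, 3, 6, 6, 7, 7, 5, 5, 1, 1, 2, 2, 4])]

theorem CV_eq : ∀ x ∈ CV, ∀ k < 14, Bf T8 x.1 (R8.getD k 0) = x.2.getD k 0 := by decide +kernel

theorem exists_CV : ∀ s ∈ V3, ∃ x ∈ CV, x.1 = s := by decide +kernel

/-- the commutators with `W (x m)` -/
def Hl (l : List ℕ) (m : ℕ) : List ℕ :=
  [0, l.getD (2 * m) 0, l.getD (2 * m + 1) 0, l.getD (2 * m) 0 ^^^ l.getD (2 * m + 1) 0]

/-- the condition on an element of `GL(U)` -/
def okf (l : List ℕ) (i j k : ℕ) : Bool :=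
  (List.range 7).all fun m => (List.range 7).any fun m' => decide (dot [i, j, k] (X m) = X m') &&
    (decide (dot [i, j, k] (l.getD (2 * m) 0) ∈ Hl l m') &&
      decide (dot [i, j, k] (l.getD (2 * m + 1) 0) ∈ Hl l m'))

/-- a power of `f` -/
def shf (i j k : ℕ) : Bool :=
  (List.range 7).any fun e => (List.range 7).all fun m => decide (dot [i, j, k] (X m) = X (m + e))

theorem okf_shf : ∀ x ∈ CV, ∀ i < 8, ∀ j < 8, ∀ k < 8, okf x.2 i j k = true → shf i j k = true := by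
  decide +kernel

theorem only_f (x : ℕ × List ℕ) (hx : x ∈ CV) (i : ℕ) (hi : i < 8) (j : ℕ) (hj : j < 8) (k : ℕ) (hk : k < 8)
    (h : ∀ m < 7, ∃ m' < 7, dot [i, j, k] (X m) = X m' ∧ dot [i, j, k] (x.2.getD (2 * m) 0) ∈ Hl x.2 m' ∧
      dot [i, j, k] (x.2.getD (2 * m + 1) 0) ∈ Hl x.2 m') :
    ∃ e < 7, ∀ m < 7, dot [i, j, k] (X m) = X (m + e) := by
  have h1 : okf x.2 i j k = true := by
    simp only [okf, List.all_eq_true, List.any_eq_true, List.mem_range, Bool.and_eq_true, decide_eq_true_eq]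
    exact h
  have h2 := okf_shf x hx i hi j hj k hk h1
  simp only [shf, List.all_eq_true, List.any_eq_true, List.mem_range, decide_eq_true_eq] at h2
  exact h2

theorem exists_norm_grow [Finite G] {P R : Subgroup G} (hR : IsPGroup 2 R) (hle : P ≤ R)
    (hne : P ≠ R) : ∃ n ∈ R, n ∉ P ∧ ∀ x ∈ P, n * x * n⁻¹ ∈ P := by
  have hfact : Fact (Nat.Prime 2) := ⟨Nat.prime_two⟩
  have hnil : Group.IsNilpotent R := hR.isNilpotent
  have hnc : NormalizerCondition R := Group.normalizerCondition_of_isNilpotent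
  have hlt : P.subgroupOf R < ⊤ := by
    rw [lt_top_iff_ne_top]
    intro h
    rw [subgroupOf_eq_top] at h
    exact hne (le_antisymm hle h)
  have h1 := hnc _ hlt
  obtain ⟨n, hn, hn'⟩ := SetLike.exists_of_lt h1
  refine ⟨n, n.2, fun h => hn' (mem_subgroupOf.2 h), fun x hx => ?_⟩
  have h2 := (mem_normalizer_iff.1 hn ⟨x, hle hx⟩).1 (mem_subgroupOf.2 hx)
  exact mem_subgroupOf.1 h2

namespace Frame

variable {z : G} {U : Subgroup G} {W K L : G → Subgroup G} {x0 x1 x2 f t a b : G}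

theorem X_mod (m : ℕ) : X (m % 7) = X m := by
  unfold X; rw [Nat.mod_mod]

/-- an element of `F` with a given code -/
theorem exists_v (F : Frame U W K x0 x1 x2 f t a b) (h : Plane z U W K L) {s : ℕ} (hs : s ∈ V3) :
    ∃ v, Cd (io x0 x1 x2) (g8 f a b) v s ∧ f * v * f⁻¹ = v := by
  have hx := F.io_xor h
  have h1 : Cd (io x0 x1 x2) (g8 f a b) (elt (g8 f a b) s) s := Cd.elt hx s
  have h2 := F.conj_f8 h h1
  have h3 : dot F8 s = s := by
    have : ∀ s ∈ V3, dot F8 s = s := by decide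
    exact this s hs
  rw [h3] at h2
  obtain ⟨c, hc⟩ := h2
  -- reduce `c` modulo 8
  obtain ⟨d, hd, e⟩ := F.io_surj h (F.io_mem c)
  rw [e] at hc
  have h4 : ∀ d < 8, ∃ m < 8, d ^^^ FU m ^^^ m = 0 := by decide
  obtain ⟨m, -, hm⟩ := h4 d hd
  refine ⟨elt (g8 f a b) s * io x0 x1 x2 m, h1.mul_iota hx m, ?_⟩
  calc f * (elt (g8 f a b) s * io x0 x1 x2 m) * f⁻¹ =
      (f * elt (g8 f a b) s * f⁻¹) * (f * io x0 x1 x2 m * f⁻¹) := by group
    _ = elt (g8 f a b) s * (io x0 x1 x2 d * io x0 x1 x2 (FU m)) := by rw [hc, F.conj_f h, mul_assoc]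
    _ = elt (g8 f a b) s * io x0 x1 x2 m := by
        rw [← hx]
        have : d ^^^ FU m = m := Nat.xor_eq_zero_iff.1 hm
        rw [this]

section V

variable (F : Frame U W K x0 x1 x2 f t a b) (h : Plane z U W K L) {s : ℕ} (hs : s ∈ V3) {v : G}
  (hv : Cd (io x0 x1 x2) (g8 f a b) v s) (hfv : f * v * f⁻¹ = v)

include F h hs hv

omit hs in
theorem v_Y : v ∈ YU U W := F.mem_Y_of_code h hv

theorem v_sq : v * v = 1 := by
  rw [hv.sq (F.io_xor h) (F.good8 h)]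
  have : ∀ s ∈ V3, Qf T8 s = 0 := by decide
  rw [this s hs, io_zero]

theorem v_ne : v ≠ 1 := by
  intro e
  have h1 : s < 256 := by
    have : ∀ s ∈ V3, s < 256 := by decide
    exact this s hs
  have h2 := (F.code_U h h1 hv).1 (by rw [e]; exact one_mem _)
  have : ∀ s ∈ V3, s ≠ 0 := by decide
  exact this s hs h2

/-- the elements of `C_Y(v)` -/
theorem comm_v_iff {y : G} {n : ℕ} (hn : n < 256) (hy : Cd (io x0 x1 x2) (g8 f a b) y n) :
    y * v = v * y ↔ Bf T8 n 61 = 0 := by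
  have e := hy.comm (F.io_xor h) (F.good8 h) hv
  have h1 : ∀ s ∈ V3, ∀ n < 256, Bf T8 n s = 0 ↔ Bf T8 n 61 = 0 := by decide +kernel
  rw [← h1 s hs n hn]
  constructor
  · intro h2
    rw [h2] at e
    exact (F.io_eq_one h (Bf8_lt _ _)).1 (left_eq_mul.1 e)
  · intro h2
    rw [h2, io_zero, mul_one] at e
    exact e

/-- an element of `C_G(v)` which normalises `U` and has order a power of two lies in `Y` -/
theorem mem_Y_of_norm {g : G} (hgv : g * v = v * g) (hg : ∀ u ∈ U, g * u * g⁻¹ ∈ U) {k : ℕ}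
    (hk : g ^ 2 ^ k = 1) : g ∈ YU U W := by
  have hx := F.io_xor h
  have hT8 := F.good8 h
  obtain ⟨i, hi, e0⟩ := F.io_surj h (hg _ F.ind.p_mem)
  obtain ⟨j, hj, e1⟩ := F.io_surj h (hg _ F.ind.q_mem)
  obtain ⟨l, hl, e2⟩ := F.io_surj h (hg _ F.ind.w_mem)
  have act := fun n => F.conj_io h e0 e1 e2 n
  have alt : ∀ n, dot [i, j, l] n < 8 := fun n => dot_closed (· < 8) (by norm_num)
    (fun a b ha hb => xor_lt ha hb) _ (by
      intro c hc
      simp only [List.mem_cons, List.not_mem_nil, or_false] at hc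
      rcases hc with rfl | rfl | rfl <;> assumption) n
  obtain ⟨x, hx', rfl⟩ := exists_CV s hs
  have hgv' : g * v * g⁻¹ = v := by rw [hgv, mul_inv_cancel_right]
  -- commutators of `v` with the generators
  have cE : ∀ k < 14, v * E f a b k * v⁻¹ * (E f a b k)⁻¹ = io x0 x1 x2 (x.2.getD k 0) := by
    intro k hk
    have e := hv.comm hx hT8 (F.E_cd8 h hk)
    rw [CV_eq x hx' k hk] at e
    have e3 := h.Y_comm (mul_mem (F.E_Y h k) (F.v_Y h hv)) (F.io_mem (x.2.getD k 0))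
    rw [e3] at e
    rw [e]; group
  have xlt : ∀ x ∈ CV, ∀ k < 14, x.2.getD k 0 < 8 := by decide
  -- the commutators of `v` with `W`
  have cW : ∀ m' < 7, ∀ w ∈ W (io x0 x1 x2 (X m')), ∃ c ∈ Hl x.2 m', v * w * v⁻¹ * w⁻¹ = io x0 x1 x2 c := by
    intro m' hm' w hw
    obtain ⟨u, hu, e⟩ := F.W_gen h m' hw
    have cA := cE (2 * m') (by omega)
    have cB := cE (2 * m' + 1) (by omega)
    rw [E_even] at cA
    rw [E_odd] at cB
    have vu : v * u * v⁻¹ = u := Plane.conj_C (h.Y_le (F.v_Y h hv)) hu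
    have mU : ∀ w : G, v * (w * u) * v⁻¹ * (w * u)⁻¹ = v * w * v⁻¹ * w⁻¹ := by
      intro w
      calc v * (w * u) * v⁻¹ * (w * u)⁻¹ = v * w * v⁻¹ * (v * u * v⁻¹) * u⁻¹ * w⁻¹ := by group
        _ = _ := by rw [vu]; group
    rcases e with rfl | rfl | rfl | rfl
    · exact ⟨0, by simp [Hl], by rw [vu, mul_inv_cancel, io_zero]⟩
    · exact ⟨x.2.getD (2 * m') 0, by simp [Hl], by rw [mU, cA]⟩
    · exact ⟨x.2.getD (2 * m' + 1) 0, by simp [Hl], by rw [mU, cB]⟩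
    · refine ⟨x.2.getD (2 * m') 0 ^^^ x.2.getD (2 * m' + 1) 0, by simp [Hl], ?_⟩
      rw [mU, hx, ← cA]
      have e4 : v * A f b m' * v⁻¹ = io x0 x1 x2 (x.2.getD (2 * m' + 1) 0) * A f b m' := by rw [← cB]; group
      have e5 : (A f a m')⁻¹ * io x0 x1 x2 (x.2.getD (2 * m' + 1) 0) =
          io x0 x1 x2 (x.2.getD (2 * m' + 1) 0) * (A f a m')⁻¹ :=
        h.Y_comm (inv_mem (h.W_le_Y (F.io_mem _) (F.pt h _) (F.A_mem h m'))) (F.io_mem _)
      calc v * (A f a m' * A f b m') * v⁻¹ * (A f a m' * A f b m')⁻¹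
          = v * A f a m' * v⁻¹ * (v * A f b m' * v⁻¹) * (A f b m')⁻¹ * (A f a m')⁻¹ := by group
        _ = v * A f a m' * v⁻¹ * (io x0 x1 x2 (x.2.getD (2 * m' + 1) 0) * (A f a m')⁻¹) := by
            rw [e4]; group
        _ = _ := by rw [← e5]; group
  -- the condition of `only_f`
  obtain ⟨e, he, hact⟩ := only_f x hx' i hi j hj l hl (by
    intro m hm
    -- the image of the point
    have hne : dot [i, j, l] (X m) ≠ 0 := by
      intro h0
      have h1 := act (X m)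
      rw [h0, io_zero] at h1
      apply F.pt h m
      calc io x0 x1 x2 (X m) = g⁻¹ * (g * io x0 x1 x2 (X m) * g⁻¹) * g := by group
        _ = 1 := by rw [h1]; group
    have hex : ∀ n < 8, n ≠ 0 → ∃ j < 7, n = X j := by decide +kernel
    obtain ⟨m', hm', e3⟩ := hex _ (alt _) hne
    refine ⟨m', hm', e3, ?_⟩
    have key : ∀ w ∈ W (io x0 x1 x2 (X m)), ∀ c < 8, v * w * v⁻¹ * w⁻¹ = io x0 x1 x2 c →
        dot [i, j, l] c ∈ Hl x.2 m' := by
      intro w hw c _ e4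
      have hw' : g * w * g⁻¹ ∈ W (io x0 x1 x2 (X m')) := by
        have := conj_mem_cj (g := g) hw
        rwa [h.cj_W, act, e3] at this
      obtain ⟨d, hd, e5⟩ := cW m' hm' _ hw'
      have e6 : v * (g * w * g⁻¹) * v⁻¹ * (g * w * g⁻¹)⁻¹ = io x0 x1 x2 (dot [i, j, l] c) := by
        rw [← act, ← e4]
        calc v * (g * w * g⁻¹) * v⁻¹ * (g * w * g⁻¹)⁻¹
            = (g * v * g⁻¹) * (g * w * g⁻¹) * (g * v * g⁻¹)⁻¹ * (g * w * g⁻¹)⁻¹ := by rw [hgv']
          _ = _ := by group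
      have hd8 : d < 8 := by
        have hH : ∀ x ∈ CV, ∀ m < 7, ∀ d ∈ Hl x.2 m, d < 8 := by decide +kernel
        exact hH x hx' m' hm' d hd
      rw [F.io_inj h (alt c) hd8 (e6.symm.trans e5)]
      exact hd
    constructor
    · have := cE (2 * m) (by omega)
      rw [E_even] at this
      exact key _ (F.A_mem h m) _ (xlt x hx' _ (by omega)) this
    · have := cE (2 * m + 1) (by omega)
      rw [E_odd] at this
      exact key _ (F.B_mem h m) _ (xlt x hx' _ (by omega)) this)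
  -- `g` acts as `f ^ e`
  have h1 : ∀ m, g * io x0 x1 x2 (X m) * g⁻¹ = io x0 x1 x2 (X (m + e)) := by
    intro m
    rw [act, ← X_mod m, hact _ (Nat.mod_lt _ (by norm_num)), ← X_mod (m % 7 + e), Nat.mod_add_mod, X_mod]
  have h2 : ∀ n m, g ^ n * io x0 x1 x2 (X m) * (g ^ n)⁻¹ = io x0 x1 x2 (X (m + n * e)) := by
    intro n
    induction n with
    | zero => intro m; simp
    | succ n ih =>
      intro m
      calc g ^ (n + 1) * io x0 x1 x2 (X m) * (g ^ (n + 1))⁻¹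
          = g ^ n * (g * io x0 x1 x2 (X m) * g⁻¹) * (g ^ n)⁻¹ := by rw [pow_succ]; group
        _ = _ := by rw [h1, ih]; congr 2; ring
  have h7 : g ^ 7 ∈ YU U W := by
    rw [← F.C_eq h, Plane.mem_C]
    intro u hu
    by_cases hu1 : u = 1
    · rw [hu1, mul_one, one_mul]
    · obtain ⟨m, -, rfl⟩ := F.exists_X h hu hu1
      apply mul_inv_eq_iff_eq_mul.1
      rw [h2 7 m, ← X_mod (m + 7 * e), Nat.add_mul_mod_self_left, X_mod]
  have h8 : ∃ j, 8 ^ k = 7 * j + 1 := by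
    have : 8 ^ k % 7 = 1 := by rw [Nat.pow_mod]; norm_num
    exact ⟨8 ^ k / 7, by omega⟩
  obtain ⟨r, hr⟩ := h8
  have e8 : (g ^ 7) ^ r * g = 1 := by
    rw [← pow_mul, ← pow_succ, ← hr]
    calc g ^ 8 ^ k = (g ^ 2 ^ k) ^ 4 ^ k := by
          rw [← pow_mul]
          congr 1
          rw [show (8 : ℕ) = 2 * 4 by norm_num, mul_pow]
      _ = 1 := by rw [hk, one_pow]
  have e9 : g = ((g ^ 7) ^ r)⁻¹ := (inv_eq_of_mul_eq_one_right e8).symm
  rw [e9]
  exact inv_mem (pow_mem h7 r)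

omit hs hv in
/-- an element which normalises `C_Y(v)` normalises `U` -/
theorem norm_U {v : G} {s : ℕ} (hs : s ∈ V3) (hv : Cd (io x0 x1 x2) (g8 f a b) v s) {g : G}
    (hg : ∀ y ∈ YU U W, y * v = v * y → g * y * g⁻¹ ∈ YU U W) : ∀ u ∈ U, g * u * g⁻¹ ∈ U := by
  have hx := F.io_xor h
  have hT8 := F.good8 h
  intro u hu
  obtain ⟨c, hc, rfl⟩ := F.io_surj h hu
  have key : ∀ c < 8, ∃ n ∈ [6, 24, 30, 67, 69, 91], ∃ m ∈ [6, 24, 30, 67, 69, 91],
      Bf T8 n 61 = 0 ∧ Bf T8 m 61 = 0 ∧ n < 256 ∧ m < 256 ∧ Bf T8 n m = c := by decide +kernel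
  obtain ⟨n, -, m, -, h1, h2, hn, hm, e⟩ := key c hc
  have cn : Cd (io x0 x1 x2) (g8 f a b) (elt (g8 f a b) n) n := Cd.elt hx n
  have cm : Cd (io x0 x1 x2) (g8 f a b) (elt (g8 f a b) m) m := Cd.elt hx m
  set y := elt (g8 f a b) n with hy
  set y' := elt (g8 f a b) m with hy'
  have e1 := cn.comm hx hT8 cm
  rw [e] at e1
  have yY := F.mem_Y_of_code h cn
  have yY' := F.mem_Y_of_code h cm
  have k1 := hg y yY ((F.comm_v_iff h hs hv hn cn).2 h1)
  have k2 := hg y' yY' ((F.comm_v_iff h hs hv hm cm).2 h2)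
  have e3 : io x0 x1 x2 c = y * y' * y⁻¹ * y'⁻¹ := by
    rw [h.Y_comm (mul_mem yY' yY) (F.io_mem c)] at e1
    rw [e1]; group
  rw [e3]
  have e4 : g * (y * y' * y⁻¹ * y'⁻¹) * g⁻¹ =
      (g * y * g⁻¹) * (g * y' * g⁻¹) * (g * y * g⁻¹)⁻¹ * (g * y' * g⁻¹)⁻¹ := by group
  rw [e4]
  exact h.comm_YY k1 k2

include hfv

/-- the involutions of `C_G(v)` lie in `F U` -/
theorem invol [Finite G] (hc : IsCharacteristicTwoType G) {i : G} (hi : i * i = 1) (hiv : i * v = v * i) :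
    ∃ n ∈ V4, Cd (io x0 x1 x2) (g8 f a b) i n := by
  have hx := F.io_xor h
  have hT8 := F.good8 h
  have hvY := F.v_Y h hv
  set C := centralizer ({v} : Set G) with hC
  have memC : ∀ {g : G}, g ∈ C ↔ g * v = v * g := fun {g} => by
    rw [hC, mem_centralizer_singleton_iff]
  set O := o2 C with hO
  set T := YU U W ⊓ C with hT
  have OC : O ≤ C := o2_le C
  have O2 : IsPGroup 2 O := o2_isPGroup C
  have hch : C ⊓ centralizer (O : Set G) ≤ O :=
    inf_centralizer_o2_le hc (isTwoLocal_centralizer (F.v_sq h hs hv) (F.v_ne h hs hv))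
  have Y2 : IsPGroup 2 (YU U W) := by
    rw [← F.C_eq h]; exact h.two
  have T2 : IsPGroup 2 T := Y2.to_le inf_le_left
  have nO : C ≤ normalizer (O : Set G) := le_normalizer_o2 C
  -- elements of `C` of 2-power order which normalise `T` lie in `T`
  have step : ∀ g ∈ C, (∀ y ∈ T, g * y * g⁻¹ ∈ T) → (∃ k : ℕ, g ^ 2 ^ k = 1) → g ∈ T := by
    rintro g hg hgT ⟨k, hk⟩
    refine ⟨F.mem_Y_of_norm h hs hv (memC.1 hg) (F.norm_U h hs hv ?_) hk, hg⟩
    intro y hy hyv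
    exact (hgT y ⟨hy, memC.2 hyv⟩).1
  -- `O ≤ T`
  have OT : O ≤ T := by
    have hA : IsPGroup 2 (T ⊔ O : Subgroup G) :=
      T2.to_sup_of_normal_right' O2 (inf_le_right.trans nO)
    have hAC : T ⊔ O ≤ C := sup_le inf_le_right OC
    by_cases hne : T = T ⊔ O
    · rw [hne]; exact le_sup_right
    · obtain ⟨r, hr, hrT, hr2⟩ := exists_norm_grow hA le_sup_left hne
      refine absurd (step r (hAC hr) hr2 ?_) hrT
      obtain ⟨k, hk⟩ := hA ⟨r, hr⟩
      exact ⟨k, congrArg Subtype.val hk⟩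
  -- codes of the elements of `T`
  have Tcode : ∀ y ∈ T, ∃ n < 256, Cd (io x0 x1 x2) (g8 f a b) y n ∧ Bf T8 n 61 = 0 := by
    rintro y ⟨hy, hyC⟩
    obtain ⟨n, hn, hcd⟩ := F.code8 h hy
    exact ⟨n, hn, hcd, (F.comm_v_iff h hs hv hn hcd).1 (memC.1 hyC)⟩
  have Tof : ∀ {y n}, n < 256 → Cd (io x0 x1 x2) (g8 f a b) y n → Bf T8 n 61 = 0 → y ∈ T := by
    intro y n hn hcd h0
    exact ⟨F.mem_Y_of_code h hcd, memC.2 ((F.comm_v_iff h hs hv hn hcd).2 h0)⟩
  have V4c : ∀ s ∈ V4, ∀ n < 256, Bf T8 n 61 = 0 → Bf T8 n s = 0 := by decide +kernel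
  have V4T : ∀ s ∈ V4, s < 256 ∧ Bf T8 s 61 = 0 := by decide +kernel
  have commFU : ∀ {y s' : G} {n c : ℕ}, n < 256 → Cd (io x0 x1 x2) (g8 f a b) y n → Bf T8 n 61 = 0 → c ∈ V4 →
      Cd (io x0 x1 x2) (g8 f a b) s' c → y * s' = s' * y := by
    intro y s' n c hn hy h0 hc' hs'
    have := hy.comm hx hT8 hs'
    rw [V4c c hc' n hn h0, io_zero, mul_one] at this
    exact this
  -- `F U ≤ O`
  have FUO : ∀ {y n}, n ∈ V4 → Cd (io x0 x1 x2) (g8 f a b) y n → y ∈ O := by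
    intro y n hn hcd
    refine hch ⟨(Tof (V4T n hn).1 hcd (V4T n hn).2).2, mem_centralizer_iff.2 ?_⟩
    intro o ho
    obtain ⟨m, hm, hcm, h0⟩ := Tcode o (OT ho)
    exact commFU hm hcm h0 hn hcd
  -- `O ≠ F U`
  obtain ⟨o, ho, n, hn, hcn, hn4, h0⟩ : ∃ o ∈ O, ∃ n < 256, Cd (io x0 x1 x2) (g8 f a b) o n ∧ n ∉ V4 ∧
      Bf T8 n 61 = 0 := by
    by_contra hcon
    have hall : ∀ o ∈ O, ∃ n ∈ V4, Cd (io x0 x1 x2) (g8 f a b) o n := by
      intro o ho
      obtain ⟨m, hm, hcm, h0⟩ := Tcode o (OT ho)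
      by_contra h1
      exact hcon ⟨o, ho, m, hm, hcm, fun h2 => h1 ⟨m, h2, hcm⟩, h0⟩
    have c6 : Cd (io x0 x1 x2) (g8 f a b) (elt (g8 f a b) 6) 6 := Cd.elt hx 6
    have h6 : Bf T8 6 61 = 0 := by decide +kernel
    have hT6 := Tof (by norm_num) c6 h6
    have hO6 : elt (g8 f a b) 6 ∈ O := by
      refine hch ⟨hT6.2, mem_centralizer_iff.2 ?_⟩
      intro o ho
      obtain ⟨n, hn, hcn⟩ := hall o ho
      exact (commFU (by norm_num) c6 h6 hn hcn).symm
    obtain ⟨n, hn, hcn⟩ := hall _ hO6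
    have := F.code_unique h (by norm_num) (V4T n hn).1 c6 hcn
    rw [← this] at hn
    revert hn
    decide
  -- `T ≤ O`
  have fC : f ∈ C := memC.2 (mul_inv_eq_iff_eq_mul.1 hfv)
  have conjO : ∀ {x : G}, x ∈ O → f * x * f⁻¹ ∈ O := fun {x} hx =>
    (mem_normalizer_iff.1 (nO fC) x).1 hx
  have TO : T ≤ O := by
    intro y hy
    obtain ⟨m, hm, hcm, hm0⟩ := Tcode y hy
    by_cases hm4 : m ∈ V4
    · exact FUO hm4 hcm
    · have key : ∀ n ∈ (List.range 256).filter (fun n => Bf T8 n 61 = 0 ∧ n ∉ V4),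
          ∀ m ∈ (List.range 256).filter (fun n => Bf T8 n 61 = 0 ∧ n ∉ V4),
          m ^^^ n ∈ V4 ∨ m ^^^ dot F8 n ∈ V4 ∨ m ^^^ dot F8 (dot F8 n) ∈ V4 ∨
            m ^^^ dot F8 (dot F8 (dot F8 n)) ∈ V4 ∨ m ^^^ dot F8 (dot F8 (dot F8 (dot F8 n))) ∈ V4 ∨
            m ^^^ dot F8 (dot F8 (dot F8 (dot F8 (dot F8 n)))) ∈ V4 ∨
            m ^^^ dot F8 (dot F8 (dot F8 (dot F8 (dot F8 (dot F8 n))))) ∈ V4 := by decide +kernel
      have hk := key n (by simp [hn, h0, hn4]) m (by simp [hm, hm0, hm4])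
      have fin : ∀ {x : G} {c : ℕ}, x ∈ O → Cd (io x0 x1 x2) (g8 f a b) x c → m ^^^ c ∈ V4 → y ∈ O := by
        intro x c hx' hcx h1
        have h2 := hcm.mul hx hT8 (hcx.inv hx hT8)
        have h3 := FUO h1 h2
        have : y = y * x⁻¹ * x := by group
        rw [this]; exact mul_mem h3 hx'
      have o1 := conjO ho
      have c1 := F.conj_f8 h hcn
      have o2 := conjO o1
      have c2 := F.conj_f8 h c1
      have o3 := conjO o2
      have c3 := F.conj_f8 h c2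
      have o4 := conjO o3
      have c4 := F.conj_f8 h c3
      have o5 := conjO o4
      have c5 := F.conj_f8 h c4
      have o6 := conjO o5
      have c6 := F.conj_f8 h c5
      rcases hk with hk | hk | hk | hk | hk | hk | hk
      exacts [fin ho hcn hk, fin o1 c1 hk, fin o2 c2 hk, fin o3 c3 hk, fin o4 c4 hk, fin o5 c5 hk,
        fin o6 c6 hk]
  -- the involution `i`
  have iC : i ∈ C := memC.2 hiv
  have iT : i ∈ T := by
    refine step i iC ?_ ⟨1, by rw [pow_one, pow_two, hi]⟩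
    intro y hy
    exact OT ((mem_normalizer_iff.1 (nO iC) y).1 (TO hy))
  obtain ⟨m, hm, hcm, hm0⟩ := Tcode i iT
  refine ⟨m, ?_, hcm⟩
  have hq := hcm.sq hx hT8
  rw [hi] at hq
  have Qlt : ∀ n < 256, Qf T8 n < 8 := by decide +kernel
  have hq0 := (F.io_eq_one h (Qlt m hm)).1 hq.symm
  have key : ∀ m < 256, Bf T8 m 61 = 0 → Qf T8 m = 0 → m ∈ V4 := by decide +kernel
  exact key m hm hm0 hq0

end V

/-- the involutions of `C_G(i)`, `i ∈ F U ∖ U` -/
theorem invol' (F : Frame U W K x0 x1 x2 f t a b) (h : Plane z U W K L) [Finite G]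
    (hc : IsCharacteristicTwoType G) {i : G} {s : ℕ} (hs : s ∈ V3)
    (hi : Cd (io x0 x1 x2) (g8 f a b) i s) {x : G} (hx2 : x * x = 1) (hxi : x * i = i * x) :
    ∃ n ∈ V4, Cd (io x0 x1 x2) (g8 f a b) x n := by
  have hx := F.io_xor h
  have hT8 := F.good8 h
  obtain ⟨v, hv, hfv⟩ := F.exists_v h hs
  have hvY := F.v_Y h hv
  -- `i = v u`
  obtain ⟨k, hk⟩ := hi
  obtain ⟨l, hl⟩ := hv
  obtain ⟨c, hc8, hc'⟩ := F.io_surj h (F.io_mem (l ^^^ k))
  have hiv : i = v * io x0 x1 x2 c := by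
    rw [← hc', hk, hl, mul_assoc, ← hx, ← Nat.xor_assoc, Nat.xor_self, Nat.zero_xor]
  have hv : Cd (io x0 x1 x2) (g8 f a b) v s := ⟨l, hl⟩
  have key : ∀ s ∈ V3, ∀ c < 8, ∃ n < 256, Bf T8 n s = c := by decide +kernel
  obtain ⟨n, hn, hnc⟩ := key s hs c hc8
  have cn : Cd (io x0 x1 x2) (g8 f a b) (elt (g8 f a b) n) n := Cd.elt hx n
  set y := elt (g8 f a b) n with hy
  have e := cn.comm hx hT8 hv
  rw [hnc] at e
  have yY := F.mem_Y_of_code h cn
  have e2 : y * v * y⁻¹ = i := by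
    have e3 : io x0 x1 x2 c * y⁻¹ = y⁻¹ * io x0 x1 x2 c := (h.Y_comm (inv_mem yY) (F.io_mem c)).symm
    rw [e, hiv]
    calc v * y * io x0 x1 x2 c * y⁻¹ = v * y * (io x0 x1 x2 c * y⁻¹) := by group
      _ = _ := by rw [e3]; group
  obtain ⟨m, hm, hcm⟩ := F.invol h hs hv hfv hc (i := y⁻¹ * x * y)
    (by
      calc y⁻¹ * x * y * (y⁻¹ * x * y) = y⁻¹ * (x * x) * y := by group
        _ = 1 := by rw [hx2]; group)
    (by
      calc y⁻¹ * x * y * v = y⁻¹ * (x * (y * v * y⁻¹)) * y := by group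
        _ = y⁻¹ * ((y * v * y⁻¹) * x) * y := by rw [e2, hxi]
        _ = _ := by group)
  refine ⟨m, hm, ?_⟩
  have h1 := (cn.mul hx hT8 hcm).mul hx hT8 (cn.inv hx hT8)
  have h2 : y * (y⁻¹ * x * y) * y⁻¹ = x := by group
  have h3 : n ^^^ m ^^^ n = m := by
    rw [Nat.xor_comm n m, Nat.xor_assoc, Nat.xor_self, Nat.xor_zero]
  rw [h2, h3] at h1
  exact h1

/-- no element of `F U ∖ U` is conjugate to `z` -/
theorem not_conj (F : Frame U W K x0 x1 x2 f t a b) (h : Plane z U W K L) [Finite G]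
    (hc : IsCharacteristicTwoType G) {i : G} {s : ℕ} (hs : s ∈ V3)
    (hi : Cd (io x0 x1 x2) (g8 f a b) i s) (g : G) : g * z * g⁻¹ ≠ i := by
  intro e
  have hx := F.io_xor h
  have hT8 := F.good8 h
  obtain ⟨g', hg'⟩ := h.pt _ F.ind.p_mem F.ind.p_ne
  set k := g * g'⁻¹ with hk
  have e1 : k * x0 * k⁻¹ = i := by
    rw [hk, ← hg', ← e]; group
  have cen : ∀ y ∈ YU U W, (k * y * k⁻¹) * i = i * (k * y * k⁻¹) := by
    intro y hy
    have := h.Y_comm hy F.ind.p_mem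
    rw [← e1]
    calc (k * y * k⁻¹) * (k * x0 * k⁻¹) = k * (y * x0) * k⁻¹ := by group
      _ = _ := by rw [this]; group
  have sq : ∀ y : G, y * y = 1 → (k * y * k⁻¹) * (k * y * k⁻¹) = 1 := by
    intro y hy
    calc (k * y * k⁻¹) * (k * y * k⁻¹) = k * (y * y) * k⁻¹ := by group
      _ = 1 := by rw [hy]; group
  obtain ⟨n, hn, hcn⟩ := F.invol' h hc hs hi (sq _ (F.E_sq h 0)) (cen _ (F.E_Y h 0))
  obtain ⟨m, hm, hcm⟩ := F.invol' h hc hs hi (sq _ (F.E_sq h 2)) (cen _ (F.E_Y h 2))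
  have e2 := hcn.comm hx hT8 hcm
  have key : ∀ n ∈ V4, ∀ m ∈ V4, Bf T8 n m = 0 := by decide +kernel
  rw [key n hn m hm, io_zero, mul_one] at e2
  have e3 : E f a b 0 * E f a b 2 = E f a b 2 * E f a b 0 := by
    calc E f a b 0 * E f a b 2 = k⁻¹ * ((k * E f a b 0 * k⁻¹) * (k * E f a b 2 * k⁻¹)) * k := by group
      _ = _ := by rw [e2]; group
  have e4 := F.tab h 0 (by norm_num) 2 (by norm_num)
  rw [e3] at e4
  have e5 := (F.io_eq_one h (m := mm 0 2) (by decide)).1 (left_eq_mul.1 e4)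
  revert e5
  decide

end Frame

/-- section 4: the second class of involutions -/
theorem Plane.second [Finite G] {z : G} {U : Subgroup G} {W K L : G → Subgroup G}
    (hc : IsCharacteristicTwoType G) (h : Plane z U W K L) :
    ∃ v : G, v * v = 1 ∧ (∀ g : G, g * z * g⁻¹ ≠ v) ∧ ∀ i : G, i * i = 1 → i ≠ 1 → i * v = v * i →
      i ∈ U ∨ ∀ g : G, g * z * g⁻¹ * i = i * (g * z * g⁻¹) → g * z * g⁻¹ ∈ U := by
  obtain ⟨x0, x1, x2, f, t, a, b, F⟩ := h.exists_frame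
  have hs : 61 ∈ V3 := by decide
  obtain ⟨v, hv, hfv⟩ := F.exists_v h hs
  have V4lt : ∀ s ∈ V4, s < 256 := by decide
  have V4V3 : ∀ s ∈ V4, s = 0 ∨ s ∈ V3 := by decide
  refine ⟨v, F.v_sq h hs hv, F.not_conj h hc hs hv, ?_⟩
  intro i hi _ hiv
  obtain ⟨n, hn, hcn⟩ := F.invol h hs hv hfv hc hi hiv
  rcases V4V3 n hn with h0 | h3
  · exact Or.inl ((F.code_U h (V4lt n hn) hcn).2 h0)
  · right
    intro g hg
    obtain ⟨g', hg'⟩ := h.pt _ F.ind.p_mem F.ind.p_ne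
    have hzz : z * z = 1 := by
      have := h.sq_U _ F.ind.p_mem
      calc z * z = g'⁻¹ * ((g' * z * g'⁻¹) * (g' * z * g'⁻¹)) * g' := by group
        _ = 1 := by rw [hg', this]; group
    obtain ⟨m, hm, hcm⟩ := F.invol' h hc h3 hcn (x := g * z * g⁻¹)
      (by
        calc g * z * g⁻¹ * (g * z * g⁻¹) = g * (z * z) * g⁻¹ := by group
          _ = 1 := by rw [hzz]; group) hg
    rcases V4V3 m hm with h0 | h3'
    · exact (F.code_U h (V4lt m hm) hcm).2 h0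
    · exact absurd rfl (F.not_conj h hc h3' hcm g)

end Cfsg.Agent.Omega.NOThree.Ru
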