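import Cfsg.Agent.Involutions.BaerSuzuki
import Cfsg.Agent.Involutions.PairCount
import Cfsg.Agent.MinSimple.Geo

/-!
# NO-3S, `q = 2`, `M_x` natural for `SL₂(4)` (helper881's text #12858): sections 5 and 6

* `exists_comm_of_second` (section 5): if `v` is an involution which is not conjugate to `z` and every involution of
  `C_G(v)` is in `U` or has all its conjugates of `z` in `U`, then every conjugate of `z` centralizes an element of `U#`.
* `Planes.mem_pCore` (section 6): five planes on every point, covering a group of order 32, every conjugate of `z`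
  centralizes an element of every plane: any two conjugates of `z` generate a 2-group, so `z ∈ O₂(G)`.
-/

set_option autoImplicit false

namespace Cfsg.Agent.Omega.NOThree.Ru

open Subgroup Cfsg.Agent.MinSimple.Geo Cfsg.Agent.Involutions

variable {G : Type*} [Group G]

/-- two nonconjugate involutions of a finite group commute with a common involution of the group generated by them -/
theorem exists_comm_invol [Finite G] {v r : G} (hv : v * v = 1) (hr : r * r = 1)
    (hvr : ¬ IsConj v r) : ∃ i : G, i * i = 1 ∧ i ≠ 1 ∧ i * v = v * i ∧ i * r = r * i := by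
  have hev : Even (orderOf (v * r)) := by
    rw [← Nat.not_odd_iff_even]
    exact fun h => hvr (PairCount.isConj_of_odd_orderOf_mul hv hr h)
  set n := orderOf (v * r) / 2 with hn
  have h2 := PairCount.orderOf_pow_half hev
  rw [← hn] at h2
  refine ⟨(v * r) ^ n, PairCount.mul_self_of_orderOf_two h2, ?_, ?_, ?_⟩
  · intro e
    rw [e, orderOf_one] at h2
    omega
  · have h3 : v * (v * r) * v⁻¹ = (v * r)⁻¹ := PairCount.mul_inverts hv hr
    have h4 : v * (v * r) ^ n * v⁻¹ = (v * r) ^ n := by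
      rw [← conj_pow, h3, inv_pow]
      exact inv_eq_of_mul_eq_one_left (PairCount.mul_self_of_orderOf_two h2)
    calc (v * r) ^ n * v = (v * (v * r) ^ n * v⁻¹) * v := by rw [h4]
      _ = v * (v * r) ^ n := by group
  · have h3 : r * (v * r) * r⁻¹ = (v * r)⁻¹ := by
      rw [mul_inv_rev, inv_eq_of_mul_eq_one_left hr, inv_eq_of_mul_eq_one_left hv]
      calc r * (v * r) * r = r * v * (r * r) := by group
        _ = r * v := by rw [hr, mul_one]
    have h4 : r * (v * r) ^ n * r⁻¹ = (v * r) ^ n := by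
      rw [← conj_pow, h3, inv_pow]
      exact inv_eq_of_mul_eq_one_left (PairCount.mul_self_of_orderOf_two h2)
    calc (v * r) ^ n * r = (r * (v * r) ^ n * r⁻¹) * r := by rw [h4]
      _ = r * (v * r) ^ n := by group

/-- section 5 -/
theorem exists_comm_of_second [Finite G] {z v : G} {U : Subgroup G} (hz : z * z = 1) (hz1 : z ≠ 1)
    (hv : v * v = 1) (hvz : ∀ g : G, g * z * g⁻¹ ≠ v)
    (h4 : ∀ i : G, i * i = 1 → i ≠ 1 → i * v = v * i →
      i ∈ U ∨ ∀ g : G, g * z * g⁻¹ * i = i * (g * z * g⁻¹) → g * z * g⁻¹ ∈ U) (g : G) :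
    ∃ u ∈ U, u ≠ 1 ∧ g * z * g⁻¹ * u = u * (g * z * g⁻¹) := by
  have hr : g * z * g⁻¹ * (g * z * g⁻¹) = 1 := by
    calc g * z * g⁻¹ * (g * z * g⁻¹) = g * (z * z) * g⁻¹ := by group
      _ = 1 := by rw [hz]; group
  have hr1 : g * z * g⁻¹ ≠ 1 := fun e => hz1 (by
    have : z = g⁻¹ * (g * z * g⁻¹) * g := by group
    rw [this, e]; group)
  obtain ⟨i, hi, hi1, hiv, hir⟩ := exists_comm_invol hv hr (by
    intro hc
    obtain ⟨c, hc⟩ := isConj_iff.mp hc
    refine hvz (c⁻¹ * g) ?_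
    calc c⁻¹ * g * z * (c⁻¹ * g)⁻¹ = c⁻¹ * (g * z * g⁻¹) * c := by group
      _ = c⁻¹ * (c * v * c⁻¹) * c := by rw [hc]
      _ = v := by group)
  rcases h4 i hi hi1 hiv with h | h
  · exact ⟨i, h, hi1, hir.symm⟩
  · exact ⟨_, h g hir.symm, hr1, rfl⟩

/-- two involutions whose product has order dividing 4 generate a 2-group -/
theorem isPGroup_closure_pair {z r : G} (hz : z * z = 1) (hr : r * r = 1)
    (h : z * r * (z * r) * (z * r * (z * r)) = 1) :
    IsPGroup 2 (closure {z, r} : Subgroup G) := by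
  have hzi : z⁻¹ = z := inv_eq_of_mul_eq_one_left hz
  have hri : r⁻¹ = r := inv_eq_of_mul_eq_one_left hr
  have h4 : (z * r) ^ 4 = 1 := by
    calc (z * r) ^ 4 = z * r * (z * r) * (z * r * (z * r)) := by
          simp only [pow_succ, pow_zero, one_mul, mul_assoc]
      _ = 1 := h
  have h1 : IsPGroup 2 (zpowers (z * r)) := by
    rintro ⟨x, hx⟩
    obtain ⟨k, rfl⟩ := mem_zpowers_iff.mp hx
    refine ⟨2, Subtype.ext ?_⟩
    change ((z * r) ^ k) ^ (2 ^ 2) = 1
    have : ((z * r) ^ k) ^ (2 ^ 2) = ((z * r) ^ 4) ^ k := by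
      rw [← zpow_natCast, ← zpow_mul, ← zpow_natCast, ← zpow_mul, mul_comm]
      norm_num
    rw [this, h4, one_zpow]
  have h2 : IsPGroup 2 (zpowers z) := isPGroup_zpowers hz
  have hn : zpowers z ≤ normalizer (zpowers (z * r) : Set G) := by
    rw [zpowers_le]
    refine Cfsg.Agent.ZN.Block.mem_normalizer_of ?_ ?_
    · intro m hm
      obtain ⟨k, rfl⟩ := mem_zpowers_iff.mp hm
      rw [← conj_zpow, PairCount.mul_inverts hz hr]
      exact zpow_mem (inv_mem (mem_zpowers _)) k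
    · intro m hm
      obtain ⟨k, rfl⟩ := mem_zpowers_iff.mp hm
      have e : z⁻¹ * (z * r) ^ k * z = z * (z * r) ^ k * z⁻¹ := by rw [hzi]
      rw [e, ← conj_zpow, PairCount.mul_inverts hz hr]
      exact zpow_mem (inv_mem (mem_zpowers _)) k
  have h3 := IsPGroup.to_sup_of_normal_right' h2 h1 hn
  refine h3.to_le ?_
  rw [closure_le]
  rintro x (rfl | hx)
  · exact mem_sup_left (mem_zpowers _)
  · rw [Set.mem_singleton_iff] at hx
    subst hx
    have e : x = z * (z * x) := by rw [← mul_assoc, hz, one_mul]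
    have h5 : z * (z * x) ∈ zpowers z ⊔ zpowers (z * x) :=
      mul_mem (mem_sup_left (mem_zpowers _)) (mem_sup_right (mem_zpowers _))
    rw [← e] at h5
    exact h5

/-- section 6: the planes on `z` -/
structure Planes (z : G) (P : Set (Subgroup G)) (W : Subgroup G) : Prop where
  zz : z * z = 1
  z_ne : z ≠ 1
  conj : ∀ U ∈ P, ∀ g : G, cj g U ∈ P
  sq : ∀ U ∈ P, ∀ u ∈ U, u * u = 1
  /-- a line is in at most one plane -/
  uniq : ∀ U ∈ P, ∀ U' ∈ P, ∀ a ∈ U, ∀ b ∈ U, a ∈ U' → b ∈ U' → a ≠ 1 → b ≠ 1 → a ≠ b → U = U'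
  /-- `W = W_z` is covered by the five planes on `z` -/
  cover : ∀ w ∈ W, ∃ U ∈ P, z ∈ U ∧ w ∈ U
  le : ∀ U ∈ P, z ∈ U → U ≤ W
  five : {U | U ∈ P ∧ z ∈ U}.ncard = 5
  card_W : Nat.card W = 32
  /-- section 5 -/
  cent : ∀ U ∈ P, ∀ g : G, ∃ u ∈ U, u ≠ 1 ∧ g * z * g⁻¹ * u = u * (g * z * g⁻¹)

namespace Planes

variable {z : G} {P : Set (Subgroup G)} {W : Subgroup G}

/-- some plane on `z` contains two points commuting with `r` -/
theorem exists_two [Finite G] (h : Planes z P W) (g : G) (hzr : z * (g * z * g⁻¹) ≠ g * z * g⁻¹ * z) :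
    ∃ U ∈ P, z ∈ U ∧ ∃ a ∈ U, ∃ b ∈ U, a ≠ 1 ∧ b ≠ 1 ∧ a ≠ b ∧
      g * z * g⁻¹ * a = a * (g * z * g⁻¹) ∧ g * z * g⁻¹ * b = b * (g * z * g⁻¹) := by
  classical
  by_contra hcon
  push Not at hcon
  set r := g * z * g⁻¹ with hr
  let D : Subgroup G := W ⊓ centralizer ({r} : Set G)
  have hD : ∀ d, d ∈ D ↔ d ∈ W ∧ r * d = d * r := by
    intro d
    rw [mem_inf, mem_centralizer_singleton_iff]
    exact and_congr_right fun _ => eq_comm
  have hone : ∀ d ∈ D, d ≠ 1 → ∀ U ∈ P, z ∈ U → d ∈ U → ∀ U' ∈ P, z ∈ U' → d ∈ U' → U = U' := by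
    intro d hd hd1 U hU hzU hdU U' hU' hzU' hdU'
    refine h.uniq U hU U' hU' z hzU d hdU hzU' hdU' h.z_ne hd1 ?_
    intro e
    rw [← e] at hd
    exact hzr ((hD z).mp hd).2.symm
  have hex : ∀ d : {d : D // d ≠ 1}, ∃ U, (U ∈ P ∧ z ∈ U) ∧ ((d : D) : G) ∈ U := by
    intro d
    obtain ⟨U, hU, hzU, hdU⟩ := h.cover _ ((hD _).mp (d : D).2).1
    exact ⟨U, ⟨hU, hzU⟩, hdU⟩
  choose f hf1 hf2 using hex
  let F : {d : D // d ≠ 1} → {U | U ∈ P ∧ z ∈ U} := fun d => ⟨f d, hf1 d⟩
  have hcoe : ∀ d : {d : D // d ≠ 1}, ((d : D) : G) ≠ 1 := fun d e => d.2 (Subtype.ext e)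
  have hinj : Function.Injective F := by
    intro d d' hdd
    have hU : f d = f d' := congrArg Subtype.val hdd
    by_contra hne
    have hne' : ((d : D) : G) ≠ ((d' : D) : G) := fun e => hne (Subtype.ext (Subtype.ext e))
    have h1 := ((hD _).mp (d : D).2).2
    have h2 := ((hD _).mp (d' : D).2).2
    exact hcon (f d) (hf1 d).1 (hf1 d).2 _ (hf2 d) _ (hU ▸ hf2 d') (hcoe d) (hcoe d') hne' h1 h2
  have hsurj : Function.Surjective F := by
    rintro ⟨U, hU, hzU⟩
    obtain ⟨u, hu, hu1, hur⟩ := h.cent U hU g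
    have huD : u ∈ D := (hD u).mpr ⟨h.le U hU hzU hu, hur⟩
    refine ⟨⟨⟨u, huD⟩, fun e => hu1 (congrArg Subtype.val e)⟩, ?_⟩
    apply Subtype.ext
    exact hone u huD hu1 _ (hf1 _).1 (hf1 _).2 (hf2 _) U hU hzU hu
  have hcard : Nat.card {d : D // d ≠ 1} = 5 := by
    rw [Nat.card_congr (Equiv.ofBijective F ⟨hinj, hsurj⟩)]
    exact h.five
  have h6 : Nat.card D = 6 := by
    have h1 : Nat.card {d : D // d = 1} + Nat.card {d : D // ¬ d = 1} = Nat.card D := by
      rw [← Nat.card_sum]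
      exact Nat.card_congr (Equiv.sumCompl _)
    have h2 : Nat.card {d : D // d = 1} = 1 := by simp
    have h3 : Nat.card {d : D // ¬ d = 1} = 5 := hcard
    omega
  have hdvd : Nat.card D ∣ Nat.card W := card_dvd_of_le inf_le_left
  rw [h6, h.card_W] at hdvd
  omega

/-- section 6: any two conjugates of `z` generate a 2-group -/
theorem isPGroup [Finite G] (h : Planes z P W) (g : G) :
    IsPGroup 2 (closure {z, g * z * g⁻¹} : Subgroup G) := by
  have hr : g * z * g⁻¹ * (g * z * g⁻¹) = 1 := by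
    calc g * z * g⁻¹ * (g * z * g⁻¹) = g * (z * z) * g⁻¹ := by group
      _ = 1 := by rw [h.zz]; group
  refine isPGroup_closure_pair h.zz hr ?_
  by_cases hzr : z * (g * z * g⁻¹) = g * z * g⁻¹ * z
  · set r := g * z * g⁻¹
    have h1 : z * r * (z * r) = 1 := by
      calc z * r * (z * r) = z * (r * z) * r := by group
        _ = (z * z) * (r * r) := by rw [← hzr]; group
        _ = 1 := by rw [h.zz, hr, mul_one]
    rw [h1, mul_one]
  · obtain ⟨U, hU, hzU, a, ha, b, hb, ha1, hb1, hab, hra, hrb⟩ := h.exists_two g hzr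
    set r := g * z * g⁻¹
    have hri : r⁻¹ = r := inv_eq_of_mul_eq_one_left hr
    have hca : ∀ c ∈ U, r * c = c * r → c ∈ cj r U := by
      intro c hc hrc
      rw [mem_cj]
      have : r⁻¹ * c * r = c := by rw [mul_assoc, ← hrc, inv_mul_cancel_left]
      rw [this]; exact hc
    have hUr : U = cj r U := h.uniq U hU _ (h.conj U hU r) a ha b hb (hca a ha hra) (hca b hb hrb) ha1 hb1 hab
    have hz' : r * z * r⁻¹ ∈ U := by
      have : r * z * r⁻¹ ∈ cj r U := conj_mem_cj hzU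
      rwa [← hUr] at this
    have h1 : z * r * (z * r) ∈ U := by
      have e : z * r * (z * r) = z * (r * z * r⁻¹) := by rw [hri]; group
      rw [e]
      exact mul_mem hzU hz'
    exact h.sq U hU _ h1

theorem mem_pCore [Finite G] (h : Planes z P W) : z ∈ Cfsg.pCore 2 G := by
  have : Fact (Nat.Prime 2) := ⟨Nat.prime_two⟩
  exact BaerSuzuki.mem_pCore_of_conj_pairs z h.isPGroup

end Planes

end Cfsg.Agent.Omega.NOThree.Ru
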