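import Cfsg.Agent.MinSimple.Geo

/-!
# NO-3S, `q = 2`, `M_x` natural for `SL₂(4)` (helper881's text #12858): input of sections 3 and 4

`U` is a plane (`|U| = 8`), `W p`, `K p`, `L p` are attached to the points `p ∈ U#` (`W p = ⟨lines on p⟩`,
`K p` = kernel of `C(p)` on `W p/p`, `L p = ⟨W q : q ∈ W p, q ≠ 1⟩`).

* `Fl U W K p q g`: a flag element: `g ∈ W p ∩ K q`, `g ∉ U` (the flag is the point `p` on the line `{p, q, pq}`);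
* `Ind U p q w`: three independent elements of `U`;
* `YU U W = ⟨W p : p ∈ U#⟩`;
* `Plane`: what sections 1 and 2 deliver.
-/

set_option autoImplicit false

namespace Cfsg.Agent.Omega.NOThree.Ru

open Subgroup Cfsg Cfsg.Agent.MinSimple.Geo

variable {G : Type*} [Group G]

/-- `⟨W p : p ∈ U#⟩` -/
def YU (U : Subgroup G) (W : G → Subgroup G) : Subgroup G := closure {w | ∃ p ∈ U, p ≠ 1 ∧ w ∈ W p}

/-- `g ∈ W p ∩ K q`, `g ∉ U` -/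
structure Fl (U : Subgroup G) (W K : G → Subgroup G) (p q g : G) : Prop where
  mem : g ∈ W p
  notMem : g ∉ U
  memK : g ∈ K q

/-- three independent elements of the elementary abelian group `U` -/
structure Ind (U : Subgroup G) (p q w : G) : Prop where
  p_mem : p ∈ U
  q_mem : q ∈ U
  w_mem : w ∈ U
  p_ne : p ≠ 1
  q_ne : q ≠ 1
  pq : p ≠ q
  w_ne : w ≠ 1
  pw : p ≠ w
  qw : q ≠ w
  pqw : p * q ≠ w

/-- The plane configuration: everything that sections 3 and 4 use. -/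
structure Plane (z : G) (U : Subgroup G) (W K L : G → Subgroup G) : Prop where
  -- the plane
  card_U : Nat.card U = 8
  sq_U : ∀ u ∈ U, u * u = 1
  pt : ∀ u ∈ U, u ≠ 1 → ∃ g : G, g * z * g⁻¹ = u
  two : IsPGroup 2 (centralizer (U : Set G))
  -- conjugation
  cj_W : ∀ g p : G, cj g (W p) = W (g * p * g⁻¹)
  cj_K : ∀ g p : G, cj g (K p) = K (g * p * g⁻¹)
  cj_L : ∀ g p : G, cj g (L p) = L (g * p * g⁻¹)
  -- the groups `W p`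
  U_le : ∀ p ∈ U, p ≠ 1 → U ≤ W p
  sq_W : ∀ p ∈ U, p ≠ 1 → ∀ w ∈ W p, w * w = 1
  card_W : ∀ p ∈ U, p ≠ 1 → Nat.card (W p) = 32
  inf_W : ∀ p ∈ U, p ≠ 1 → ∀ q ∈ U, q ≠ 1 → p ≠ q → W p ⊓ W q = U
  -- the groups `K p`
  K_cent : ∀ p ∈ U, p ≠ 1 → ∀ k ∈ K p, k * p = p * k
  K_act : ∀ p ∈ U, p ≠ 1 → ∀ k ∈ K p, ∀ w ∈ W p, k * w * k⁻¹ = w ∨ k * w * k⁻¹ = w * p
  /-- `C_{W p}(K p) = ⟨p⟩` -/
  K_fix : ∀ p ∈ U, p ≠ 1 → ∀ w ∈ W p, (∀ k ∈ K p, k * w = w * k) → w = 1 ∨ w = p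
  -- flags
  exists_fl : ∀ p ∈ U, p ≠ 1 → ∀ q ∈ U, q ≠ 1 → p ≠ q → ∃ g, Fl U W K p q g
  fl_mul : ∀ p ∈ U, p ≠ 1 → ∀ q ∈ U, q ≠ 1 → p ≠ q → ∀ g, Fl U W K p q g → Fl U W K p (p * q) g
  /-- `W p ∩ K q` has index two in `W p` -/
  fl_index : ∀ p ∈ U, p ≠ 1 → ∀ q ∈ U, q ≠ 1 → p ≠ q → ∀ a ∈ W p, ∀ b ∈ W p, a ∉ K q → b ∉ K q → a * b ∈ K q
  /-- `β(e_p^n, e_q^n) = 0` for the line `n = {p, q, pq}` -/
  fl_comm : ∀ p ∈ U, p ≠ 1 → ∀ q ∈ U, q ≠ 1 → p ≠ q → ∀ g g', Fl U W K p q g → Fl U W K q p g' → g * g' = g' * g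
  /-- `β(e_p^n, e_q^m) = q` for `m ≠ n` -/
  fl_act : ∀ p ∈ U, p ≠ 1 → ∀ q ∈ U, q ≠ 1 → p ≠ q → ∀ g g', Fl U W K p q g → g' ∈ W q → g' ∉ K p →
    g * g' = g' * g * q
  /-- `β(e_p^l, e_q^m) = l' ∩ m'` for `l, m ≠ n`: with `w = l ∩ m` this is `p q w` -/
  fl_tri : ∀ p q w, Ind U p q w → ∀ g g', Fl U W K p w g → Fl U W K q w g' → g * g' = g' * g * (p * q * w)
  -- the centraliser of `U`
  /-- `C_U = Y_U B_p` -/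
  cent : ∀ p ∈ U, p ≠ 1 → ∀ c ∈ centralizer (U : Set G), ∃ y ∈ YU U W, ∃ b ∈ centralizer (W p : Set G), c = y * b
  -- the groups `L p`
  L_cent : ∀ p ∈ U, p ≠ 1 → ∀ l ∈ L p, l * p = p * l
  W_le_L : ∀ p ∈ U, p ≠ 1 → ∀ q ∈ U, q ≠ 1 → W q ≤ L p
  /-- `L p` centralises `B_p/W_p` -/
  L_B : ∀ p ∈ U, p ≠ 1 → ∀ l ∈ L p, ∀ b ∈ centralizer (W p : Set G), l * b * l⁻¹ * b⁻¹ ∈ W p
  /-- the transvections with centre `p` on `U` are induced by elements of `L p` -/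
  L_tv : ∀ p u w, Ind U p u w → ∃ l ∈ L p, l * u * l⁻¹ = u * p ∧ l * w * l⁻¹ = w
  /-- `L p` is generated by the `W (l q l⁻¹)`, `l ∈ L p`, `q ∈ U#` -/
  L_gen : ∀ p ∈ U, p ≠ 1 → ∀ c : G, (∀ l ∈ L p, ∀ q ∈ U, q ≠ 1 → ∀ w ∈ W (l * q * l⁻¹), c * w = w * c) →
    ∀ l ∈ L p, c * l = l * c
  /-- `C_G(⟨L p, L q⟩) = 1` -/
  L_inf : ∀ p ∈ U, p ≠ 1 → ∀ q ∈ U, q ≠ 1 → p ≠ q → ∀ c : G, (∀ l ∈ L p, c * l = l * c) →
    (∀ l ∈ L q, c * l = l * c) → c = 1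

end Cfsg.Agent.Omega.NOThree.Ru
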