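import Cfsg.Agent.Omega.NOThree.Ru.Plane

/-!
# The plane configuration: elementary facts

`Y = YU U W`: `U` is central in `Y`, `[Y, Y] ≤ U`, `[C_U, Y] ≤ U`, `C_U/D` is elementary abelian, `D = C_G(Y)`,
`D ∩ W p = U`.
-/

set_option autoImplicit false

namespace Cfsg.Agent.Omega.NOThree.Ru

open Subgroup Cfsg Cfsg.Agent.MinSimple.Geo

variable {G : Type*} [Group G]

namespace Ind

variable {U : Subgroup G} {p q w : G}

theorem swap (h : Ind U p q w) (hU : ∀ u ∈ U, u * u = 1) : Ind U q p w := by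
  refine ⟨h.q_mem, h.p_mem, h.w_mem, h.q_ne, h.p_ne, h.pq.symm, h.w_ne, h.qw, h.pw, ?_⟩
  have hc : q * p = p * q := by
    have h1 : ∀ u ∈ U, u⁻¹ = u := fun u hu => inv_eq_of_mul_eq_one_left (hU u hu)
    calc q * p = q⁻¹ * p⁻¹ := by rw [h1 q h.q_mem, h1 p h.p_mem]
      _ = (p * q)⁻¹ := by rw [mul_inv_rev]
      _ = p * q := h1 _ (mul_mem h.p_mem h.q_mem)
  rw [hc]; exact h.pqw

end Ind

namespace Plane

variable {z : G} {U : Subgroup G} {W K L : G → Subgroup G}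

section Elem

theorem inv_U (h : Plane z U W K L) {u : G} (hu : u ∈ U) : u⁻¹ = u := inv_eq_of_mul_eq_one_left (h.sq_U u hu)

theorem comm_U (h : Plane z U W K L) {u v : G} (hu : u ∈ U) (hv : v ∈ U) : u * v = v * u := by
  calc u * v = u⁻¹ * v⁻¹ := by rw [h.inv_U hu, h.inv_U hv]
    _ = (v * u)⁻¹ := by rw [mul_inv_rev]
    _ = v * u := h.inv_U (mul_mem hv hu)

theorem inv_W (h : Plane z U W K L) {p : G} (hp : p ∈ U) (hp1 : p ≠ 1) {u : G} (hu : u ∈ W p) : u⁻¹ = u :=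
  inv_eq_of_mul_eq_one_left (h.sq_W p hp hp1 u hu)

theorem comm_W (h : Plane z U W K L) {p : G} (hp : p ∈ U) (hp1 : p ≠ 1) {u v : G} (hu : u ∈ W p)
    (hv : v ∈ W p) : u * v = v * u := by
  calc u * v = u⁻¹ * v⁻¹ := by rw [h.inv_W hp hp1 hu, h.inv_W hp hp1 hv]
    _ = (v * u)⁻¹ := by rw [mul_inv_rev]
    _ = v * u := h.inv_W hp hp1 (mul_mem hv hu)

theorem W_le_Y (_ : Plane z U W K L) {p : G} (hp : p ∈ U) (hp1 : p ≠ 1) : W p ≤ YU U W :=
  fun _ hw => subset_closure ⟨p, hp, hp1, hw⟩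

theorem exists_ne (h : Plane z U W K L) : ∃ p ∈ U, p ≠ 1 := by
  have h1 : U ≠ ⊥ := by
    rintro rfl
    have := h.card_U
    rw [Subgroup.card_bot] at this
    omega
  obtain ⟨x, hx⟩ := (Subgroup.ne_bot_iff_exists_ne_one (H := U)).1 h1
  exact ⟨x, x.2, fun e => hx (Subtype.ext e)⟩

theorem U_le_Y (h : Plane z U W K L) : U ≤ YU U W := by
  obtain ⟨p, hp, hp1⟩ := h.exists_ne
  exact (h.U_le p hp hp1).trans (h.W_le_Y hp hp1)

/-- `Y` centralises `U` -/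
theorem Y_comm (h : Plane z U W K L) {y u : G} (hy : y ∈ YU U W) (hu : u ∈ U) : y * u = u * y := by
  induction hy using closure_induction with
  | mem w hw =>
    obtain ⟨p, hp, hp1, hw⟩ := hw
    exact h.comm_W hp hp1 hw (h.U_le p hp hp1 hu)
  | one => rw [one_mul, mul_one]
  | mul a b _ _ iha ihb => rw [mul_assoc, ihb, ← mul_assoc, iha, mul_assoc]
  | inv a _ ih =>
    calc a⁻¹ * u = a⁻¹ * (u * a) * a⁻¹ := by group
      _ = u * a⁻¹ := by rw [← ih]; group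

theorem Y_le (h : Plane z U W K L) : YU U W ≤ centralizer (U : Set G) := fun y hy => by
  rw [mem_centralizer_iff]
  exact fun u hu => (h.Y_comm hy hu).symm

theorem W_le_C (h : Plane z U W K L) {p : G} (hp : p ∈ U) (hp1 : p ≠ 1) : W p ≤ centralizer (U : Set G) :=
  (h.W_le_Y hp hp1).trans h.Y_le

theorem mem_C {c : G} : c ∈ centralizer (U : Set G) ↔ ∀ u ∈ U, c * u = u * c := by
  rw [mem_centralizer_iff]
  exact ⟨fun h1 u hu => (h1 u hu).symm, fun h1 u hu => (h1 u hu).symm⟩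

theorem conj_C {c u : G} (hc : c ∈ centralizer (U : Set G)) (hu : u ∈ U) : c * u * c⁻¹ = u := by
  rw [mem_C.1 hc u hu, mul_inv_cancel_right]

/-- an element which centralises `p` normalises `W p` -/
theorem conj_W (h : Plane z U W K L) {p c w : G} (hc : c * p * c⁻¹ = p) (hw : w ∈ W p) : c * w * c⁻¹ ∈ W p := by
  have := conj_mem_cj (g := c) hw
  rwa [h.cj_W, hc] at this

theorem comm_WW (h : Plane z U W K L) {p q : G} (hp : p ∈ U) (hp1 : p ≠ 1) (hq : q ∈ U) (hq1 : q ≠ 1)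
    {w w' : G} (hw : w ∈ W p) (hw' : w' ∈ W q) : w * w' * w⁻¹ * w'⁻¹ ∈ U := by
  by_cases hpq : p = q
  · subst hpq
    rw [h.comm_W hp hp1 hw hw']
    have : w' * w * w⁻¹ * w'⁻¹ = 1 := by group
    rw [this]; exact one_mem _
  · rw [← h.inf_W p hp hp1 q hq hq1 hpq]
    have h1 := h.conj_W (conj_C (h.W_le_C hp hp1 hw) hq) hw'
    have h2 : w' * w⁻¹ * w'⁻¹ ∈ W p := h.conj_W (conj_C (h.W_le_C hq hq1 hw') hp) ((W p).inv_mem hw)
    refine ⟨?_, (W q).mul_mem h1 ((W q).inv_mem hw')⟩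
    have e : w * w' * w⁻¹ * w'⁻¹ = w * (w' * w⁻¹ * w'⁻¹) := by group
    rw [e]
    exact mul_mem hw h2

/-- a commutator calculus: if `[a, y], [b, y] ∈ U` and `a` centralises `U`, then `[ab, y] ∈ U` -/
theorem comm_mul_left {a b y : G} (ha : a ∈ centralizer (U : Set G)) (h1 : a * y * a⁻¹ * y⁻¹ ∈ U)
    (h2 : b * y * b⁻¹ * y⁻¹ ∈ U) : a * b * y * (a * b)⁻¹ * y⁻¹ ∈ U := by
  have e : a * b * y * (a * b)⁻¹ * y⁻¹ = a * (b * y * b⁻¹ * y⁻¹) * a⁻¹ * (a * y * a⁻¹ * y⁻¹) := by group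
  rw [e, conj_C ha h2]
  exact mul_mem h2 h1

theorem comm_mul_right {a y y' : G} (hy : y ∈ centralizer (U : Set G)) (h1 : a * y * a⁻¹ * y⁻¹ ∈ U)
    (h2 : a * y' * a⁻¹ * y'⁻¹ ∈ U) : a * (y * y') * a⁻¹ * (y * y')⁻¹ ∈ U := by
  have e : a * (y * y') * a⁻¹ * (y * y')⁻¹ = a * y * a⁻¹ * y⁻¹ * (y * (a * y' * a⁻¹ * y'⁻¹) * y⁻¹) := by group
  rw [e, conj_C hy h2]
  exact mul_mem h1 h2

/-- `[C_U, Y] ≤ U` as soon as it holds on the generators -/
theorem comm_of_gen (h : Plane z U W K L) {c : G}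
    (hw : ∀ p ∈ U, p ≠ 1 → ∀ w ∈ W p, c * w * c⁻¹ * w⁻¹ ∈ U) {y : G} (hy : y ∈ YU U W) :
    c * y * c⁻¹ * y⁻¹ ∈ U := by
  induction hy using closure_induction with
  | mem w hw' =>
    obtain ⟨p, hp, hp1, hw'⟩ := hw'
    exact hw p hp hp1 w hw'
  | one => simp [one_mem]
  | mul a b ha _ iha ihb => exact comm_mul_right (h.Y_le ha) iha ihb
  | inv a ha ih =>
    have e : c * a⁻¹ * c⁻¹ * a⁻¹⁻¹ = a⁻¹ * (c * a * c⁻¹ * a⁻¹)⁻¹ * a⁻¹⁻¹ := by group
    rw [e, conj_C (inv_mem (h.Y_le ha)) (inv_mem ih)]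
    exact inv_mem ih

theorem comm_YW (h : Plane z U W K L) {q : G} (hq : q ∈ U) (hq1 : q ≠ 1) {y w : G} (hy : y ∈ YU U W)
    (hw : w ∈ W q) : y * w * y⁻¹ * w⁻¹ ∈ U := by
  have h1 : w * y * w⁻¹ * y⁻¹ ∈ U := h.comm_of_gen (fun p hp hp1 w' hw' => h.comm_WW hq hq1 hp hp1 hw hw') hy
  have e : y * w * y⁻¹ * w⁻¹ = (w * y * w⁻¹ * y⁻¹)⁻¹ := by group
  rw [e]
  exact inv_mem h1

/-- `[C_U, W p] ≤ U` -/
theorem comm_CW (h : Plane z U W K L) {c : G} (hc : c ∈ centralizer (U : Set G)) {p : G} (hp : p ∈ U)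
    (hp1 : p ≠ 1) {w : G} (hw : w ∈ W p) : c * w * c⁻¹ * w⁻¹ ∈ U := by
  obtain ⟨y, hy, b, hb, rfl⟩ := h.cent p hp hp1 c hc
  have hbw : b * w = w * b := (mem_centralizer_iff.1 hb w hw).symm
  have e : y * b * w * (y * b)⁻¹ * w⁻¹ = y * w * y⁻¹ * w⁻¹ := by
    rw [mul_inv_rev, mul_assoc y b w, hbw]; group
  rw [e]
  exact h.comm_YW hp hp1 hy hw

/-- `[C_U, Y] ≤ U` -/
theorem comm_CY (h : Plane z U W K L) {c y : G} (hc : c ∈ centralizer (U : Set G)) (hy : y ∈ YU U W) :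
    c * y * c⁻¹ * y⁻¹ ∈ U :=
  h.comm_of_gen (fun _ hp hp1 _ hw => h.comm_CW hc hp hp1 hw) hy

theorem comm_YY (h : Plane z U W K L) {c y : G} (hc : c ∈ YU U W) (hy : y ∈ YU U W) :
    c * y * c⁻¹ * y⁻¹ ∈ U := h.comm_CY (h.Y_le hc) hy

/-- `C_U` normalises `Y` -/
theorem C_conj_Y (h : Plane z U W K L) {c y : G} (hc : c ∈ centralizer (U : Set G)) (hy : y ∈ YU U W) :
    c * y * c⁻¹ ∈ YU U W := by
  have e : c * y * c⁻¹ = c * y * c⁻¹ * y⁻¹ * y := by group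
  rw [e]
  exact mul_mem (h.U_le_Y (h.comm_CY hc hy)) hy

/-! ### `D = C_G(Y)` -/

theorem mem_D {d : G} : d ∈ centralizer (YU U W : Set G) ↔ ∀ y ∈ YU U W, d * y = y * d := by
  rw [mem_centralizer_iff]
  exact ⟨fun h1 u hu => (h1 u hu).symm, fun h1 u hu => (h1 u hu).symm⟩

theorem mem_D_iff {d : G} : d ∈ centralizer (YU U W : Set G) ↔
    ∀ p ∈ U, p ≠ 1 → ∀ w ∈ W p, d * w = w * d := by
  rw [mem_D]
  constructor
  · intro h1 p hp hp1 w hw
    exact h1 w (subset_closure ⟨p, hp, hp1, hw⟩)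
  · intro h1 y hy
    have h2 : YU U W ≤ centralizer ({d} : Set G) := by
      rw [YU, closure_le]
      rintro w ⟨p, hp, hp1, hw⟩
      exact mem_centralizer_singleton_iff.2 (h1 p hp hp1 w hw).symm
    exact (mem_centralizer_singleton_iff.1 (h2 hy)).symm

theorem D_le_C (h : Plane z U W K L) : centralizer (YU U W : Set G) ≤ centralizer (U : Set G) :=
  centralizer_le h.U_le_Y

theorem D_le_B (h : Plane z U W K L) {p : G} (hp : p ∈ U) (hp1 : p ≠ 1) :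
    centralizer (YU U W : Set G) ≤ centralizer (W p : Set G) := centralizer_le (h.W_le_Y hp hp1)

theorem U_le_D (h : Plane z U W K L) : U ≤ centralizer (YU U W : Set G) := fun u hu => by
  rw [mem_D]
  exact fun y hy => (h.Y_comm hy hu).symm

/-- a commuting action: `c w c⁻¹ = φ w` with `φ ∈ U` -/
theorem C_act (h : Plane z U W K L) {c : G} (hc : c ∈ centralizer (U : Set G)) {p : G} (hp : p ∈ U)
    (hp1 : p ≠ 1) {w : G} (hw : w ∈ W p) : ∃ u ∈ U, c * w * c⁻¹ = u * w :=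
  ⟨_, h.comm_CW hc hp hp1 hw, by group⟩

/-- `C_U/D` is abelian -/
theorem comm_CC (h : Plane z U W K L) {c c' : G} (hc : c ∈ centralizer (U : Set G))
    (hc' : c' ∈ centralizer (U : Set G)) : c * c' * c⁻¹ * c'⁻¹ ∈ centralizer (YU U W : Set G) := by
  rw [mem_D_iff]
  intro p hp hp1 w hw
  obtain ⟨u, hu, e⟩ := h.C_act hc hp hp1 hw
  obtain ⟨u', hu', e'⟩ := h.C_act hc' hp hp1 hw
  have e1 : c * c' * w * (c * c')⁻¹ = u' * (u * w) := by
    calc c * c' * w * (c * c')⁻¹ = c * (c' * w * c'⁻¹) * c⁻¹ := by group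
      _ = (c * u' * c⁻¹) * (c * w * c⁻¹) := by rw [e']; group
      _ = u' * (u * w) := by rw [conj_C hc hu', e]
  have e2 : c' * c * w * (c' * c)⁻¹ = u * (u' * w) := by
    calc c' * c * w * (c' * c)⁻¹ = c' * (c * w * c⁻¹) * c'⁻¹ := by group
      _ = (c' * u * c'⁻¹) * (c' * w * c'⁻¹) := by rw [e]; group
      _ = u * (u' * w) := by rw [conj_C hc' hu, e']
  have e3 : u' * (u * w) = u * (u' * w) := by rw [← mul_assoc, h.comm_U hu' hu, mul_assoc]
  have e4 : c * c' * w * (c * c')⁻¹ = c' * c * w * (c' * c)⁻¹ := by rw [e1, e2, e3]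
  have e5 : w = (c' * c)⁻¹ * (c * c' * w * (c * c')⁻¹) * (c' * c) := by rw [e4]; group
  -- `w` commutes with `(c'c)⁻¹ (cc')`
  have key : ∀ {x : G}, x ∈ W p → (c' * c)⁻¹ * (c * c') * x = x * ((c' * c)⁻¹ * (c * c')) := by
    intro x hx
    obtain ⟨u, hu, e⟩ := h.C_act hc hp hp1 hx
    obtain ⟨u', hu', e'⟩ := h.C_act hc' hp hp1 hx
    have e1 : c * c' * x * (c * c')⁻¹ = u' * (u * x) := by
      calc c * c' * x * (c * c')⁻¹ = c * (c' * x * c'⁻¹) * c⁻¹ := by group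
        _ = (c * u' * c⁻¹) * (c * x * c⁻¹) := by rw [e']; group
        _ = u' * (u * x) := by rw [conj_C hc hu', e]
    have e2 : c' * c * x * (c' * c)⁻¹ = u * (u' * x) := by
      calc c' * c * x * (c' * c)⁻¹ = c' * (c * x * c⁻¹) * c'⁻¹ := by group
        _ = (c' * u * c'⁻¹) * (c' * x * c'⁻¹) := by rw [e]; group
        _ = u * (u' * x) := by rw [conj_C hc' hu, e']
    have e3 : u' * (u * x) = u * (u' * x) := by rw [← mul_assoc, h.comm_U hu' hu, mul_assoc]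
    have e4 : c * c' * x * (c * c')⁻¹ = c' * c * x * (c' * c)⁻¹ := by rw [e1, e2, e3]
    calc (c' * c)⁻¹ * (c * c') * x = (c' * c)⁻¹ * (c * c' * x * (c * c')⁻¹) * (c * c') := by group
      _ = (c' * c)⁻¹ * (c' * c * x * (c' * c)⁻¹) * (c * c') := by rw [e4]
      _ = x * ((c' * c)⁻¹ * (c * c')) := by group
  -- conjugate by `c' c`
  have hcc : c' * c ∈ centralizer (U : Set G) := mul_mem hc' hc
  have hx := h.conj_W (p := p) (c := (c' * c)⁻¹) (w := w) (by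
    have := conj_C (inv_mem hcc) hp
    simpa using this) hw
  rw [inv_inv] at hx
  have h6 := key hx
  calc c * c' * c⁻¹ * c'⁻¹ * w = (c' * c) * ((c' * c)⁻¹ * (c * c') * ((c' * c)⁻¹ * w * (c' * c))) * (c' * c)⁻¹ := by
        group
    _ = (c' * c) * ((c' * c)⁻¹ * w * (c' * c) * ((c' * c)⁻¹ * (c * c'))) * (c' * c)⁻¹ := by rw [h6]
    _ = w * (c * c' * c⁻¹ * c'⁻¹) := by group

/-- `C_U/D` has exponent two -/
theorem sq_C (h : Plane z U W K L) {c : G} (hc : c ∈ centralizer (U : Set G)) :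
    c * c ∈ centralizer (YU U W : Set G) := by
  rw [mem_D_iff]
  intro p hp hp1 w hw
  obtain ⟨u, hu, e⟩ := h.C_act hc hp hp1 hw
  have e1 : c * c * w * (c * c)⁻¹ = w := by
    calc c * c * w * (c * c)⁻¹ = c * (c * w * c⁻¹) * c⁻¹ := by group
      _ = (c * u * c⁻¹) * (c * w * c⁻¹) := by
          rw [show c * (c * w * c⁻¹) * c⁻¹ = c * (u * w) * c⁻¹ by rw [e]]; group
      _ = u * (u * w) := by rw [conj_C hc hu, e]
      _ = w := by rw [← mul_assoc, h.sq_U u hu, one_mul]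
  exact mul_inv_eq_iff_eq_mul.1 e1

end Elem

/-! ### Flags -/

section Flags

theorem fl_notMem (h : Plane z U W K L) {p q w g' : G} (i : Ind U p q w) (hg' : Fl U W K q w g') : g' ∉ K p := by
  intro hk
  have hF : Fl U W K q p g' := ⟨hg'.mem, hg'.notMem, hk⟩
  obtain ⟨g, hg⟩ := h.exists_fl p i.p_mem i.p_ne w i.w_mem i.w_ne i.pw
  have e1 := h.fl_tri p q w i g g' hg hg'
  by_cases hgq : g ∈ K q
  · have e2 := h.fl_comm p i.p_mem i.p_ne q i.q_mem i.q_ne i.pq g g' ⟨hg.mem, hg.notMem, hgq⟩ hF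
    rw [e2] at e1
    have e3 : p * q * w = 1 := (left_eq_mul.1 e1)
    apply i.pqw
    rw [mul_eq_one_iff_eq_inv, h.inv_U i.w_mem] at e3
    exact e3
  · have e2 := h.fl_act q i.q_mem i.q_ne p i.p_mem i.p_ne i.pq.symm g' g hF hg.mem hgq
    -- `g' g = g g' p`, `g g' = g' g (pqw)`
    have e3 : g * g' = g * g' * (p * (p * q * w)) := by
      calc g * g' = g' * g * (p * q * w) := e1
        _ = _ := by rw [e2]; group
    have e4 : p * (p * q * w) = 1 := left_eq_mul.1 e3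
    apply i.qw
    have e5 : p * (p * q * w) = q * w := by
      rw [mul_assoc p q w, ← mul_assoc, h.sq_U p i.p_mem, one_mul]
    rw [e5, mul_eq_one_iff_eq_inv, h.inv_U i.w_mem] at e4
    exact e4

theorem com_gen (h : Plane z U W K L) {p q w g g' : G} (i : Ind U p q w) (hg : Fl U W K p w g)
    (hg' : Fl U W K q w g') : g * g' = g' * g * (p * q * w) := h.fl_tri p q w i g g' hg hg'

theorem com_left (h : Plane z U W K L) {p q w g g' : G} (i : Ind U p q w) (hg : Fl U W K p q g)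
    (hg' : Fl U W K q w g') : g * g' = g' * g * q :=
  h.fl_act p i.p_mem i.p_ne q i.q_mem i.q_ne i.pq g g' hg hg'.mem (h.fl_notMem i hg')

theorem com_right (h : Plane z U W K L) {p q w g g' : G} (i : Ind U p q w) (hg : Fl U W K p w g)
    (hg' : Fl U W K q p g') : g * g' = g' * g * p := by
  have e := h.fl_act q i.q_mem i.q_ne p i.p_mem i.p_ne i.pq.symm g' g hg' hg.mem
    (h.fl_notMem (i.swap h.sq_U) hg)
  rw [e, mul_assoc, h.sq_U p i.p_mem, mul_one]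

/-- `D ∩ W p = U` -/
theorem D_inf_W (h : Plane z U W K L) {p : G} (hp : p ∈ U) (hp1 : p ≠ 1) {w : G} (hw : w ∈ W p)
    (hwD : w ∈ centralizer (YU U W : Set G)) {q r : G} (i : Ind U p q r) : w ∈ U := by
  by_contra hwU
  have hc : ∀ p' ∈ U, p' ≠ 1 → ∀ w' ∈ W p', w * w' = w' * w := mem_D_iff.1 hwD
  by_cases hwq : w ∈ K q
  · -- a flag on `{p, q, pq}`
    obtain ⟨g', hg'⟩ := h.exists_fl q i.q_mem i.q_ne r i.w_mem i.w_ne i.qw
    have e := h.com_left i ⟨hw, hwU, hwq⟩ hg'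
    rw [hc q i.q_mem i.q_ne g' hg'.mem] at e
    exact i.q_ne (left_eq_mul.1 e)
  · obtain ⟨g', hg'⟩ := h.exists_fl q i.q_mem i.q_ne p hp hp1 i.pq.symm
    have e := h.fl_act q i.q_mem i.q_ne p hp hp1 i.pq.symm g' w hg' hw hwq
    rw [hc q i.q_mem i.q_ne g' hg'.mem] at e
    exact hp1 (left_eq_mul.1 e)

end Flags

end Plane

end Cfsg.Agent.Omega.NOThree.Ru
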