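import Cfsg.Agent.Omega.NOThree.Ru.YCode

/-!
# The plane configuration: `C(U) = Y`
-/

set_option autoImplicit false

namespace Cfsg.Agent.Omega.NOThree.Ru

open Subgroup Cfsg Cfsg.Agent.MinSimple.Geo Code Cfsg.Agent.Omega.NOThree.Ru.Norm

variable {G : Type*} [Group G]

namespace Code

theorem dot_closed2 (P : ℕ → ℕ → Prop) (h0 : P 0 0)
    (hx : ∀ a b c d, P a b → P c d → P (a ^^^ c) (b ^^^ d)) :
    ∀ (R S : List ℕ), List.Forall₂ P R S → ∀ n, P (dot R n) (dot S n)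
  | _, _, .nil, n => by simpa [dot] using h0
  | _, _, .cons (a := a) (b := b) (l₁ := R) (l₂ := S) hp hl, n => by
    simp only [dot]
    refine hx _ _ _ _ ?_ (dot_closed2 P h0 hx R S hl _)
    split_ifs
    exacts [hp, h0]

end Code

/-- the span of the commutators with `a` and `b` -/
def S16 : List (ℕ × ℕ) :=
  [(0, 0), (0, 1), (1, 0), (1, 1), (2, 6), (2, 7), (3, 6), (3, 7), (6, 4), (6, 5), (7, 4), (7, 5), (4, 2), (4, 3),
    (5, 2), (5, 3)]

theorem E_zero (f a b : G) : E f a b 0 = a := by simp [E, A_zero]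

theorem E_one (f a b : G) : E f a b 1 = b := by simp [E, A_zero]

namespace Frame

variable {z : G} {U : Subgroup G} {W K L : G → Subgroup G} {x0 x1 x2 f t a b : G}

theorem row14 (F : Frame U W K x0 x1 x2 f t a b) (h : Plane z U W K L) {k : ℕ} (hk : k < 14) :
    Row (io x0 x1 x2) (E f a b k) (g14 f a b) ((List.range 14).map (mm k)) := by
  have h1 : ∀ ls : List ℕ, (∀ l ∈ ls, l < 14) →
      Row (io x0 x1 x2) (E f a b k) (ls.map (E f a b)) (ls.map (mm k)) := by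
    intro ls
    induction ls with
    | nil => exact fun _ => trivial
    | cons l ls ih =>
      intro hl
      exact ⟨F.tab h k hk l (hl l (List.mem_cons_self ..)), ih fun m hm => hl m (List.mem_cons_of_mem _ hm)⟩
  exact h1 _ fun k hk => by simpa using hk

theorem row_cd (F : Frame U W K x0 x1 x2 f t a b) (h : Plane z U W K L) {k : ℕ} (hk : k < 14) {y : G} {n : ℕ}
    (hy : Cd (io x0 x1 x2) (g14 f a b) y n) :
    y * E f a b k * y⁻¹ * (E f a b k)⁻¹ = io x0 x1 x2 (dot ((List.range 14).map (mm k)) n) := by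
  have hx := F.io_xor h
  have hT := F.good14 h
  have e := (F.row14 h hk).elt hx hT (fun m => h.Y_comm (F.E_Y h k) (F.io_mem m)) n
  obtain ⟨m, rfl⟩ := hy
  set c := dot ((List.range 14).map (mm k)) n with hc
  set B := elt (g14 f a b) n with hB
  have hBY : B ∈ YU U W := by
    refine (Cd.elt hx n).mem_of (fun m => h.U_le_Y (F.io_mem m)) ?_
    intro g hg
    obtain ⟨k, -, rfl⟩ := List.mem_map.1 hg
    exact F.E_Y h k
  have e1 : io x0 x1 x2 m * E f a b k = E f a b k * io x0 x1 x2 m := (h.Y_comm (F.E_Y h k) (F.io_mem m)).symm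
  have e2 : B * E f a b k = E f a b k * B * io x0 x1 x2 c := by
    rw [e, mul_assoc (B * E f a b k), ι_sq hx, mul_one]
  have e3 : (E f a b k * B) * io x0 x1 x2 c = io x0 x1 x2 c * (E f a b k * B) :=
    h.Y_comm (mul_mem (F.E_Y h k) hBY) (F.io_mem c)
  calc B * io x0 x1 x2 m * E f a b k * (B * io x0 x1 x2 m)⁻¹ * (E f a b k)⁻¹
      = B * (io x0 x1 x2 m * E f a b k) * (io x0 x1 x2 m)⁻¹ * B⁻¹ * (E f a b k)⁻¹ := by group
    _ = (B * E f a b k) * B⁻¹ * (E f a b k)⁻¹ := by rw [e1]; group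
    _ = io x0 x1 x2 c * (E f a b k * B) * B⁻¹ * (E f a b k)⁻¹ := by rw [e2, e3]
    _ = _ := by group

theorem t_inv (F : Frame U W K x0 x1 x2 f t a b) (h : Plane z U W K L) {n : ℕ} (hn : n < 8) :
    t⁻¹ * io x0 x1 x2 n * t = io x0 x1 x2 (HU (HU n)) := by
  have e := F.conj_h h (HU (HU n))
  have key : ∀ n < 8, HU (HU (HU n)) = n := by decide
  rw [key n hn] at e
  rw [← e]; group

theorem f_inv (F : Frame U W K x0 x1 x2 f t a b) (h : Plane z U W K L) {n : ℕ} (hn : n < 8) :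
    f⁻¹ * io x0 x1 x2 n * f = io x0 x1 x2 (FU (FU (FU (FU (FU (FU n)))))) := by
  have e := F.conj_f h (FU (FU (FU (FU (FU (FU n))))))
  have key : ∀ n < 8, FU (FU (FU (FU (FU (FU (FU n)))))) = n := by decide
  rw [key n hn] at e
  rw [← e]; group

theorem t3_mem (F : Frame U W K x0 x1 x2 f t a b) (h : Plane z U W K L) : t ^ 3 ∈ centralizer (U : Set G) := by
  rw [Plane.mem_C]
  intro u hu
  obtain ⟨n, hn, rfl⟩ := F.io_surj h hu
  apply mul_inv_eq_iff_eq_mul.1
  have key : ∀ n < 8, HU (HU (HU n)) = n := by decide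
  calc t ^ 3 * io x0 x1 x2 n * (t ^ 3)⁻¹ = t * (t * (t * io x0 x1 x2 n * t⁻¹) * t⁻¹) * t⁻¹ := by
        simp only [pow_succ, pow_zero]; group
    _ = io x0 x1 x2 n := by rw [F.conj_h h, F.conj_h h, F.conj_h h, key n hn]

theorem ft_eq (F : Frame U W K x0 x1 x2 f t a b) (h : Plane z U W K L) :
    ∃ c ∈ centralizer (U : Set G), f * t = t * (c * f ^ 4) := by
  have f3 : (f ^ 4)⁻¹ = f * f * f := by
    apply inv_eq_of_mul_eq_one_right
    rw [← F.f7]
    simp only [pow_succ, pow_zero, one_mul, mul_assoc]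
  refine ⟨t⁻¹ * f * t * (f ^ 4)⁻¹, ?_, by group⟩
  rw [f3, Plane.mem_C]
  intro u hu
  obtain ⟨n, hn, rfl⟩ := F.io_surj h hu
  apply mul_inv_eq_iff_eq_mul.1
  have key : ∀ n < 8, HU (HU (FU (HU (FU (FU (FU n)))))) = n := by decide
  have lt : ∀ n < 8, FU (HU (FU (FU (FU n)))) < 8 := by decide
  calc t⁻¹ * f * t * (f * f * f) * io x0 x1 x2 n * (t⁻¹ * f * t * (f * f * f))⁻¹
      = t⁻¹ * (f * (t * (f * (f * (f * io x0 x1 x2 n * f⁻¹) * f⁻¹) * f⁻¹) * t⁻¹) * f⁻¹) * t := by group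
    _ = io x0 x1 x2 n := by
        rw [F.conj_f h, F.conj_f h, F.conj_f h, F.conj_h h, F.conj_f h, F.t_inv h (lt n hn), key n hn]

/-- elements of `W x0` are determined modulo `U` by the commutator with `E 4` -/
theorem W_det (F : Frame U W K x0 x1 x2 f t a b) (h : Plane z U W K L) {w : G} (hw : w ∈ W x0) {c : ℕ} (hc : c < 8)
    (e : w * E f a b 4 = E f a b 4 * w * io x0 x1 x2 c) :
    (c = 4 → ∃ u ∈ U, w = b * u) ∧ (c = 2 → ∃ u ∈ U, w = a * b * u) := by
  have hx := F.io_xor h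
  have hT := F.good14 h
  have hE := F.E_cd h (k := 4) (by norm_num)
  have ha := F.E_cd h (k := 0) (by norm_num)
  have hb := F.E_cd h (k := 1) (by norm_num)
  have e0 : E f a b 0 = a := E_zero f a b
  have e1 : E f a b 1 = b := E_one f a b
  rw [e0] at ha
  rw [e1] at hb
  obtain ⟨u, hu, hw'⟩ := F.W_gen0 h hw
  have hu' := F.U_cd h (gs := g14 f a b) hu
  have key : ∀ n, Cd (io x0 x1 x2) (g14 f a b) w n → c = Bf T14 n (2 ^ 4) := by
    intro n hn
    have e2 := hn.comm hx hT hE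
    rw [e] at e2
    exact F.io_inj h hc (Bf14_lt _ _) (mul_left_cancel e2)
  rcases hw' with rfl | rfl | rfl | rfl
  · have := key _ hu'
    rw [this]
    constructor
    · exact fun h => absurd h (by decide +kernel)
    · exact fun h => absurd h (by decide +kernel)
  · have := key _ (ha.mul hx hT hu')
    rw [this]
    constructor
    · exact fun h => absurd h (by decide +kernel)
    · exact fun h => absurd h (by decide +kernel)
  · have := key _ (hb.mul hx hT hu')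
    rw [this]
    constructor
    · exact fun _ => ⟨u, hu, rfl⟩
    · exact fun h => absurd h (by decide +kernel)
  · have := key _ ((ha.mul hx hT hb).mul hx hT hu')
    rw [this]
    constructor
    · exact fun h => absurd h (by decide +kernel)
    · exact fun _ => ⟨u, hu, rfl⟩

theorem t_fl (F : Frame U W K x0 x1 x2 f t a b) (h : Plane z U W K L) {p q g : G} (hg : Fl U W K p q g) :
    Fl U W K (t * p * t⁻¹) (t * q * t⁻¹) (t * g * t⁻¹) := by
  refine ⟨?_, ?_, ?_⟩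
  · rw [← h.cj_W]; exact conj_mem_cj hg.mem
  · intro h1
    apply hg.notMem
    have := F.nh.nU' _ h1
    have e : t⁻¹ * (t * g * t⁻¹) * t = g := by group
    rwa [e] at this
  · rw [← h.cj_K]; exact conj_mem_cj hg.memK

theorem t_a (F : Frame U W K x0 x1 x2 f t a b) (h : Plane z U W K L) : ∃ u ∈ U, t * a * t⁻¹ = b * u := by
  have h1 := F.t_fl h F.fa
  rw [F.h0, F.h1] at h1
  refine (F.W_det h h1.mem (c := 4) (by norm_num) ?_).1 rfl
  rw [← io_one x0 x1 x2, ← io_four x0 x1 x2] at h1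
  exact F.left h 1 4 3 (by decide) h1 (F.FA1 h 2)

theorem t_b (F : Frame U W K x0 x1 x2 f t a b) (h : Plane z U W K L) : ∃ u ∈ U, t * b * t⁻¹ = a * b * u := by
  have h1 := F.t_fl h F.fb
  rw [F.h0, F.h2] at h1
  have i : Ind U (io x0 x1 x2 1) (io x0 x1 x2 6) (io x0 x1 x2 2) := F.ind_io h (by decide)
  rw [io_one, io_six] at i
  have h2 := h.fl_mul _ i.p_mem i.p_ne _ i.q_mem i.q_ne i.pq _ h1
  refine (F.W_det h h1.mem (c := 2) (by norm_num) ?_).2 rfl
  have h3 : Fl U W K (io x0 x1 x2 1) (io x0 x1 x2 7) (t * b * t⁻¹) := by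
    rw [io_one, io_seven, mul_assoc]; exact h2
  exact F.gen h 1 4 7 2 (by decide) h3 (F.FA3 h 2)

/-- an element of `C(U)` fixed by `f` and `t` modulo `D` lies in `D` -/
theorem fixed_D (F : Frame U W K x0 x1 x2 f t a b) (h : Plane z U W K L) {c : G}
    (hc : c ∈ centralizer (U : Set G)) (hf : f * c * f⁻¹ * c⁻¹ ∈ centralizer (YU U W : Set G))
    (ht : t * c * t⁻¹ * c⁻¹ ∈ centralizer (YU U W : Set G)) : c ∈ centralizer (YU U W : Set G) := by
  have hx := F.io_xor h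
  have p0 := F.ind.p_mem
  have p1 := F.ind.p_ne
  have haW := F.fa.mem
  have hbW := F.fb.mem
  have e0 : E f a b 0 = a := E_zero f a b
  have e1 : E f a b 1 = b := E_one f a b
  obtain ⟨y, hy, b', hb', hcy⟩ := h.cent x0 p0 p1 c hc
  obtain ⟨n, hn⟩ := F.code14 h hy
  have cb' : ∀ w ∈ W x0, c * w * c⁻¹ * w⁻¹ = y * w * y⁻¹ * w⁻¹ := by
    intro w hw
    have : b' * w = w * b' := (mem_centralizer_iff.1 hb' w hw).symm
    rw [hcy, mul_inv_rev, mul_assoc y b' w, this]; group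
  set s := dot ((List.range 14).map (mm 0)) n with hs
  set r := dot ((List.range 14).map (mm 1)) n with hr
  have φa : c * a * c⁻¹ * a⁻¹ = io x0 x1 x2 s := by
    have := F.row_cd h (k := 0) (by norm_num) hn
    rw [e0] at this
    rw [cb' a haW, this]
  have φb : c * b * c⁻¹ * b⁻¹ = io x0 x1 x2 r := by
    have := F.row_cd h (k := 1) (by norm_num) hn
    rw [e1] at this
    rw [cb' b hbW, this]
  -- the pair lies in the span
  have hsr : (s, r) ∈ S16 := by
    refine Code.dot_closed2 (fun s r => (s, r) ∈ S16) (by decide) ?_ _ _ ?_ n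
    · have : ∀ x ∈ S16, ∀ y ∈ S16, (x.1 ^^^ y.1, x.2 ^^^ y.2) ∈ S16 := by decide
      exact fun a b c d h1 h2 => this _ h1 _ h2
    · decide
  have lt : ∀ x ∈ S16, x.1 < 8 ∧ x.2 < 8 := by decide
  have hs8 : s < 8 := (lt _ hsr).1
  have hr8 : r < 8 := (lt _ hsr).2
  -- equivariance
  have eqv : ∀ w ∈ W x0, ∀ m, c * w * c⁻¹ * w⁻¹ = io x0 x1 x2 m →
      c * (t * w * t⁻¹) * c⁻¹ * (t * w * t⁻¹)⁻¹ = io x0 x1 x2 (HU m) := by
    intro w hw m e
    set d := t * c * t⁻¹ * c⁻¹ with hd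
    have hcd : c = d⁻¹ * (t * c * t⁻¹) := by rw [hd]; group
    have htw : t * w * t⁻¹ ∈ YU U W := h.conj_Y F.nh.nU (h.W_le_Y p0 p1 hw)
    have hdw : ∀ x ∈ YU U W, d⁻¹ * x * d = x := by
      intro x hx
      have := Plane.mem_D.1 (inv_mem ht) x hx
      rw [this]; group
    have e3 : t * (c * w * c⁻¹) * t⁻¹ = io x0 x1 x2 (HU m) * (t * w * t⁻¹) := by
      have : c * w * c⁻¹ = io x0 x1 x2 m * w := by rw [← e]; group
      rw [this, ← F.conj_h h]; group
    have hm : io x0 x1 x2 (HU m) * (t * w * t⁻¹) ∈ YU U W := mul_mem (h.U_le_Y (F.io_mem _)) htw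
    calc c * (t * w * t⁻¹) * c⁻¹ * (t * w * t⁻¹)⁻¹
        = d⁻¹ * (t * (c * w * c⁻¹) * t⁻¹) * d * (t * w * t⁻¹)⁻¹ := by
          conv_lhs => rw [hcd]
          group
      _ = io x0 x1 x2 (HU m) := by rw [e3, hdw _ hm]; group
  have mulU : ∀ {w u : G}, u ∈ U → c * (w * u) * c⁻¹ * (w * u)⁻¹ = c * w * c⁻¹ * w⁻¹ := by
    intro w u hu
    have := Plane.conj_C hc hu
    calc c * (w * u) * c⁻¹ * (w * u)⁻¹ = c * w * c⁻¹ * (c * u * c⁻¹) * u⁻¹ * w⁻¹ := by group
      _ = _ := by rw [this]; group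
  have r1 : r = HU s := by
    obtain ⟨u, hu, e⟩ := F.t_a h
    have e2 := eqv a haW s φa
    rw [e, mulU hu, φb] at e2
    exact F.io_inj h hr8 (by revert hs8; generalize s = s; revert s; decide) e2
  have r2 : s ^^^ r = HU r := by
    obtain ⟨u, hu, e⟩ := F.t_b h
    have e2 := eqv b hbW r φb
    rw [e, mulU hu] at e2
    have e3 : c * (a * b) * c⁻¹ * (a * b)⁻¹ = io x0 x1 x2 (s ^^^ r) := by
      rw [hx, ← φa, ← φb]
      have e4 : (c * b * c⁻¹ * b⁻¹) * a⁻¹ = a⁻¹ * (c * b * c⁻¹ * b⁻¹) := by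
        rw [φb]
        exact (h.Y_comm (inv_mem (h.W_le_Y p0 p1 haW)) (F.io_mem r)).symm
      calc c * (a * b) * c⁻¹ * (a * b)⁻¹ = (c * a * c⁻¹) * ((c * b * c⁻¹ * b⁻¹) * a⁻¹) := by group
        _ = _ := by rw [e4]; group
    rw [e3] at e2
    exact F.io_inj h (xor_lt hs8 hr8) (by revert hr8; generalize r = r; revert r; decide) e2
  have hz : s = 0 ∧ r = 0 := by
    have key : ∀ x ∈ S16, x.2 = HU x.1 → x.1 ^^^ x.2 = HU x.2 → x.1 = 0 ∧ x.2 = 0 := by decide
    exact key _ hsr r1 r2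
  rw [hz.1, io_zero] at φa
  rw [hz.2, io_zero] at φb
  have step : ∀ g : G, g ∈ YU U W → c * g = g * c → ∀ j, c * A f g j = A f g j * c ∧ A f g j ∈ YU U W := by
    intro g hg hcg j
    induction j with
    | zero => rw [A_zero]; exact ⟨hcg, hg⟩
    | succ j ih =>
      obtain ⟨ih, ihY⟩ := ih
      rw [A_succ]
      have hY := h.conj_Y F.nf.nU ihY
      refine ⟨?_, hY⟩
      set d := f * c * f⁻¹ * c⁻¹ with hd
      have hcd : c = d⁻¹ * (f * c * f⁻¹) := by rw [hd]; group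
      have hdw := Plane.mem_D.1 (inv_mem hf) _ hY
      calc c * (f * A f g j * f⁻¹) = d⁻¹ * (f * (c * A f g j) * f⁻¹) := by
            conv_lhs => rw [hcd]
            group
        _ = d⁻¹ * (f * A f g j * f⁻¹) * (f * c * f⁻¹) := by rw [ih]; group
        _ = (f * A f g j * f⁻¹) * c := by
            rw [hdw]
            conv_rhs => rw [hcd]
            group
  have ca : c * a = a * c := mul_inv_eq_iff_eq_mul.1 (mul_inv_eq_one.1 φa)
  have cb : c * b = b * c := mul_inv_eq_iff_eq_mul.1 (mul_inv_eq_one.1 φb)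
  refine F.mem_D_of h (Plane.mem_C.1 hc) ?_
  intro k _
  unfold E
  split_ifs
  · exact (step a (h.W_le_Y p0 p1 haW) ca _).1
  · exact (step b (h.W_le_Y p0 p1 hbW) cb _).1

/-- `C(U) = Y D` -/
theorem C_eq_YD (F : Frame U W K x0 x1 x2 f t a b) (h : Plane z U W K L) {c : G}
    (hc : c ∈ centralizer (U : Set G)) :
    ∃ y ∈ YU U W, ∃ d ∈ centralizer (YU U W : Set G), c = y * d := by
  obtain ⟨g, hg, hft⟩ := F.ft_eq h
  have Cinv : ∀ c ∈ centralizer (U : Set G), ∀ u ∈ U, c⁻¹ * u * c ∈ U := by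
    intro c hc u hu
    have := Plane.conj_C (inv_mem hc) hu
    rw [inv_inv] at this
    rw [this]; exact hu
  obtain ⟨c₂, hc₂, ⟨s, hs, m, hm, e⟩, h1, h2⟩ := exists_fixed (S := centralizer (U : Set G))
    (M := centralizer (YU U W : Set G)) (T := YU U W) (f := f) (t := t)
    (fun s hs => h.conj_CU F.nf.nU' hs) (fun s hs => h.conj_CU F.nh.nU' hs)
    (fun s hs m hm => h.conj_D (Cinv s hs) hm)
    (fun s hs => h.conj_Y F.nf.nU hs) (fun s hs => h.conj_Y F.nh.nU hs)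
    (fun s hs m hm => h.C_conj_Y hs hm) (fun s hs s' hs' => h.comm_CC hs hs') (fun s hs => h.sq_C hs)
    (fun s hs => F.nf.C s hs) (fun s hs => F.nh.C s hs) F.f7
    (fun s hs => h.comm_CC (F.t3_mem h) hs)
    (by
      intro s hs hfs
      have h4 := pow_conj_mod (T := centralizer (YU U W : Set G)) (f := f) (c := s)
        (fun t ht => h.conj_D F.nf.nU' ht) hfs 4
      set d := f ^ 4 * s * (f ^ 4)⁻¹ * s⁻¹ with hd
      have e1 : f * (t * s * t⁻¹) * f⁻¹ * (t * s * t⁻¹)⁻¹ =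
          t * ((g * d * g⁻¹) * (g * s * g⁻¹ * s⁻¹)) * t⁻¹ := by
        calc f * (t * s * t⁻¹) * f⁻¹ * (t * s * t⁻¹)⁻¹ = (f * t) * s * (f * t)⁻¹ * (t * s * t⁻¹)⁻¹ := by group
          _ = t * (g * (f ^ 4 * s * (f ^ 4)⁻¹) * g⁻¹ * s⁻¹) * t⁻¹ := by rw [hft]; group
          _ = _ := by rw [hd]; group
      rw [e1]
      exact h.conj_D F.nh.nU' (mul_mem (h.conj_D (Cinv g hg) h4) (h.comm_CC hg hs))) hc
  have h3 := F.fixed_D h hc₂ h1 h2
  refine ⟨s⁻¹, inv_mem hs, c₂ * m⁻¹, mul_mem h3 (inv_mem hm), ?_⟩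
  rw [e]; group

end Frame

end Cfsg.Agent.Omega.NOThree.Ru
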