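import Cfsg.Agent.Omega.NOThree.Ru.Code

/-!
# Codes

`Cd ι gs y n` : `y = elt gs n` modulo `ι`. Linearity of `dot`.
-/

set_option autoImplicit false

namespace Cfsg.Agent.Omega.NOThree.Ru.Code

theorem xor_swap (a b c d : ℕ) : (a ^^^ b) ^^^ (c ^^^ d) = (a ^^^ c) ^^^ (b ^^^ d) := by
  rw [Nat.xor_assoc, Nat.xor_assoc, ← Nat.xor_assoc b, ← Nat.xor_assoc c, Nat.xor_comm b c]

theorem dot_xor (R : List ℕ) (a b : ℕ) : dot R (a ^^^ b) = dot R a ^^^ dot R b := by
  induction R generalizing a b with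
  | nil => simp [dot]
  | cons c R ih =>
    simp only [dot]
    rw [xor_div_two, ih, xor_mod_two, xor_swap]
    congr 1
    rcases Nat.mod_two_eq_zero_or_one a with ha | ha <;> rcases Nat.mod_two_eq_zero_or_one b with hb | hb <;>
      simp [ha, hb]

theorem dot_zero (R : List ℕ) : dot R 0 = 0 := by
  have := dot_xor R 0 0
  simp only [Nat.xor_self] at this
  exact this

theorem dot_dot (R S : List ℕ) (n : ℕ) : dot R (dot S n) = dot (S.map (dot R)) n := by
  induction S generalizing n with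
  | nil => simp [dot, dot_zero]
  | cons c S ih =>
    simp only [dot, List.map_cons]
    rw [dot_xor, ih]
    congr 1
    split_ifs
    · rfl
    · exact dot_zero R

theorem dot_zip (R S : List ℕ) (hl : R.length = S.length) (n : ℕ) :
    dot R n ^^^ dot S n = dot (List.zipWith (· ^^^ ·) R S) n := by
  induction R generalizing S n with
  | nil =>
    cases S with
    | nil => simp [dot]
    | cons c S => simp at hl
  | cons c R ih =>
    cases S with
    | nil => simp at hl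
    | cons d S =>
      simp only [dot, List.zipWith_cons_cons]
      rw [xor_swap, ih S (by simpa using hl)]
      congr 1
      split_ifs <;> simp

theorem dot_closed (P : ℕ → Prop) (h0 : P 0) (hx : ∀ a b, P a → P b → P (a ^^^ b)) (R : List ℕ)
    (hR : ∀ c ∈ R, P c) (n : ℕ) : P (dot R n) := by
  induction R generalizing n with
  | nil => exact h0
  | cons c R ih =>
    simp only [dot]
    refine hx _ _ ?_ (ih (fun d hd => hR d (List.mem_cons_of_mem _ hd)) _)
    split_ifs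
    exacts [hR c (List.mem_cons_self ..), h0]

variable {G : Type*} [Group G]

/-- `y = elt gs n` modulo `ι` -/
def Cd (ι : ℕ → G) (gs : List G) (y : G) (n : ℕ) : Prop := ∃ m, y = elt gs n * ι m

section

variable {ι : ℕ → G} (hι : ∀ m n, ι (m ^^^ n) = ι m * ι n) {gs : List G} {T : List (List ℕ)}

include hι

theorem Cd.elt (n : ℕ) : Cd ι gs (elt gs n) n := ⟨0, by rw [ι_zero hι, mul_one]⟩

omit hι in
theorem Cd.iota (n : ℕ) : Cd ι gs (ι n) 0 := ⟨n, by rw [elt_zero, one_mul]⟩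

theorem Cd.one : Cd ι gs 1 0 := ⟨0, by rw [ι_zero hι, elt_zero, mul_one]⟩

theorem Cd.mul_iota {y : G} {n : ℕ} (h : Cd ι gs y n) (m : ℕ) : Cd ι gs (y * ι m) n := by
  obtain ⟨k, rfl⟩ := h
  exact ⟨k ^^^ m, by rw [hι, mul_assoc]⟩

theorem Cd.mul (hT : Good ι gs T) {y y' : G} {n n' : ℕ} (h : Cd ι gs y n) (h' : Cd ι gs y' n') :
    Cd ι gs (y * y') (n ^^^ n') := by
  obtain ⟨k, rfl⟩ := h
  obtain ⟨k', rfl⟩ := h'
  obtain ⟨m, hm⟩ := hT.mul hι n n'
  refine ⟨m ^^^ (k ^^^ k'), ?_⟩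
  rw [hι, hι]
  calc Code.elt gs n * ι k * (Code.elt gs n' * ι k') = Code.elt gs n * (ι k * Code.elt gs n') * ι k' := by
        simp only [mul_assoc]
    _ = Code.elt gs n * Code.elt gs n' * (ι k * ι k') := by rw [← hT.elt_comm]; simp only [mul_assoc]
    _ = _ := by rw [hm]; simp only [mul_assoc]

theorem Cd.comm (hT : Good ι gs T) {y y' : G} {n n' : ℕ} (h : Cd ι gs y n) (h' : Cd ι gs y' n') :
    y * y' = y' * y * ι (Bf T n n') := by
  obtain ⟨k, rfl⟩ := h
  obtain ⟨k', rfl⟩ := h'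
  have c : ∀ n m, Code.elt gs n * ι m = ι m * Code.elt gs n := fun n m => hT.elt_comm n m
  have e : ∀ A B : G, ∀ m m', (∀ j, A * ι j = ι j * A) → (∀ j, B * ι j = ι j * B) →
      A * ι m * (B * ι m') = A * B * (ι m * ι m') := by
    intro A B m m' _ hB
    calc A * ι m * (B * ι m') = A * (ι m * B) * ι m' := by simp only [mul_assoc]
      _ = _ := by rw [← hB]; simp only [mul_assoc]
  rw [e _ _ _ _ (c n) (c n'), e _ _ _ _ (c n') (c n), hT.bf hι n n', ι_comm hι k' k,
    mul_assoc (Code.elt gs n' * Code.elt gs n), mul_assoc (Code.elt gs n' * Code.elt gs n), ← hι k k', ι_comm hι]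

theorem Cd.sq (hT : Good ι gs T) {y : G} {n : ℕ} (h : Cd ι gs y n) : y * y = ι (Qf T n) := by
  obtain ⟨k, rfl⟩ := h
  calc Code.elt gs n * ι k * (Code.elt gs n * ι k) = Code.elt gs n * (ι k * Code.elt gs n) * ι k := by
        simp only [mul_assoc]
    _ = Code.elt gs n * Code.elt gs n * (ι k * ι k) := by rw [← hT.elt_comm]; simp only [mul_assoc]
    _ = _ := by rw [hT.sq hι, ι_sq hι, mul_one]

theorem Cd.inv (hT : Good ι gs T) {y : G} {n : ℕ} (h : Cd ι gs y n) : Cd ι gs y⁻¹ n := by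
  have e := h.sq hι hT
  have e2 : y⁻¹ = y * ι (Qf T n) := by
    apply inv_eq_of_mul_eq_one_right
    rw [← mul_assoc, e, ι_sq hι]
  rw [e2]
  exact h.mul_iota hι _

/-- conjugation -/
theorem Cd.conj (hT : Good ι gs T) {g : G} {R : List ℕ}
    (hR : List.Forall₂ (fun x r => Cd ι gs (g * x * g⁻¹) r) gs R) (hg : ∀ m, ∃ m', g * ι m * g⁻¹ = ι m')
    {y : G} {n : ℕ} (h : Cd ι gs y n) : Cd ι gs (g * y * g⁻¹) (dot R n) := by
  obtain ⟨k, rfl⟩ := h
  obtain ⟨k', hk⟩ := hg k
  have h1 : List.Forall₂ (fun x r => ∃ n, x = Code.elt gs r * ι n) (gs.map fun x => g * x * g⁻¹) R := by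
    rw [List.forall₂_map_left_iff]
    exact hR
  obtain ⟨m, hm⟩ := hT.subst hι h1 n
  refine ⟨m ^^^ k', ?_⟩
  rw [hι, ← hk]
  calc g * (Code.elt gs n * ι k) * g⁻¹ = g * Code.elt gs n * g⁻¹ * (g * ι k * g⁻¹) := by group
    _ = _ := by rw [conj_elt, hm, mul_assoc]

/-- substitution -/
theorem Cd.subst (hT : Good ι gs T) {hs : List G} {R : List ℕ}
    (hR : List.Forall₂ (fun x r => Cd ι gs x r) hs R) {y : G} {n : ℕ} (h : Cd ι hs y n) :
    Cd ι gs y (dot R n) := by
  obtain ⟨k, rfl⟩ := h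
  obtain ⟨m, hm⟩ := hT.subst hι hR n
  refine ⟨m ^^^ k, ?_⟩
  rw [hm, hι, mul_assoc]

omit hι in
/-- the product of the codes lies in a subgroup -/
theorem Cd.mem_of {S : Subgroup G} (hS : ∀ n, ι n ∈ S) (hgs : ∀ g ∈ gs, g ∈ S) {y : G} {n : ℕ}
    (h : Cd ι gs y n) : y ∈ S := by
  obtain ⟨k, rfl⟩ := h
  have : ∀ (ls : List G), (∀ g ∈ ls, g ∈ S) → ∀ n, Code.elt ls n ∈ S := by
    intro ls
    induction ls with
    | nil => exact fun _ _ => one_mem _
    | cons g ls ih =>
      intro hl n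
      simp only [Code.elt]
      refine mul_mem ?_ (ih (fun x hx => hl x (List.mem_cons_of_mem _ hx)) _)
      split_ifs
      exacts [hl g (List.mem_cons_self ..), one_mem _]
  exact mul_mem (this gs hgs n) (hS k)

end

end Cfsg.Agent.Omega.NOThree.Ru.Code
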