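import Mathlib

/-!
# Products of involutions which commute modulo a central elementary abelian group

`ι : ℕ → G` with `ι (m ^^^ n) = ι m * ι n` (a central elementary abelian subgroup, numbered by bits), a list `gs` of
involutions and a triangular table `T` of numbers with `gᵢ gⱼ = gⱼ gᵢ ι(T i j)`, `i < j` (`Good ι gs T`).
`elt gs a` is the product of the `gᵢ` over the bits of `a`.

* `Good.bf` : `elt gs a * elt gs b = elt gs b * elt gs a * ι (Bf T a b)`;
* `Good.sq` : `elt gs a * elt gs a = ι (Qf T a)`;
* `Good.mul` : `elt gs a * elt gs b = elt gs (a ^^^ b) * ι n` for some `n`;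
* `elt_map`, `Good.subst` : conjugation and substitution.
-/

set_option autoImplicit false

namespace Cfsg.Agent.Omega.NOThree.Ru.Code

/-- xor of the entries of the list at the bits of `a` -/
def dot : List ℕ → ℕ → ℕ
  | [], _ => 0
  | c :: l, a => (if a % 2 = 1 then c else 0) ^^^ dot l (a / 2)

/-- the form -/
def Bf : List (List ℕ) → ℕ → ℕ → ℕ
  | [], _, _ => 0
  | r :: T, a, b => (if a % 2 = 1 then dot r (b / 2) else 0) ^^^ ((if b % 2 = 1 then dot r (a / 2) else 0) ^^^
      Bf T (a / 2) (b / 2))

/-- the squares -/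
def Qf : List (List ℕ) → ℕ → ℕ
  | [], _ => 0
  | r :: T, a => (if a % 2 = 1 then dot r (a / 2) else 0) ^^^ Qf T (a / 2)

variable {G : Type*} [Group G]

/-- product over the bits of `a` -/
def elt : List G → ℕ → G
  | [], _ => 1
  | g :: gs, a => (if a % 2 = 1 then g else 1) * elt gs (a / 2)

/-- the commutators of `g` with a list -/
def Row (ι : ℕ → G) (g : G) : List G → List ℕ → Prop
  | [], [] => True
  | h :: gs, c :: r => g * h = h * g * ι c ∧ Row ι g gs r
  | _, _ => False

/-- the commutator table -/
def Good (ι : ℕ → G) : List G → List (List ℕ) → Prop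
  | [], [] => True
  | g :: gs, r :: T => (g * g = 1 ∧ (∀ n, g * ι n = ι n * g) ∧ Row ι g gs r) ∧ Good ι gs T
  | _, _ => False

theorem xor_mod_two (a b : ℕ) : (a ^^^ b) % 2 = (a % 2 + b % 2) % 2 := by
  rw [← Nat.and_one_is_mod, ← Nat.and_one_is_mod, ← Nat.and_one_is_mod]
  have h1 : (a ^^^ b) &&& 1 = (a &&& 1) ^^^ (b &&& 1) := Nat.and_xor_distrib_right
  rw [h1]
  rcases Nat.mod_two_eq_zero_or_one a with ha | ha <;> rcases Nat.mod_two_eq_zero_or_one b with hb | hb <;>
    simp [Nat.and_one_is_mod, ha, hb]

theorem xor_div_two (a b : ℕ) : (a ^^^ b) / 2 = (a / 2) ^^^ (b / 2) := by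
  rw [← Nat.shiftRight_one, ← Nat.shiftRight_one, ← Nat.shiftRight_one, Nat.shiftRight_xor_distrib]

section Iota

variable {ι : ℕ → G} (hι : ∀ m n, ι (m ^^^ n) = ι m * ι n)

include hι

theorem ι_zero : ι 0 = 1 := by
  have := hι 0 0
  rw [Nat.xor_self] at this
  exact left_eq_mul.1 this

theorem ι_sq (n : ℕ) : ι n * ι n = 1 := by
  rw [← hι, Nat.xor_self, ι_zero hι]

theorem ι_comm (m n : ℕ) : ι m * ι n = ι n * ι m := by
  rw [← hι, ← hι, Nat.xor_comm]

omit hι in
theorem elt_cons_odd (g : G) (gs : List G) {a : ℕ} (h : a % 2 = 1) : elt (g :: gs) a = g * elt gs (a / 2) := by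
  simp only [elt, if_pos h]

omit hι in
theorem elt_cons_even (g : G) (gs : List G) {a : ℕ} (h : a % 2 = 0) : elt (g :: gs) a = elt gs (a / 2) := by
  have h' : ¬ a % 2 = 1 := by omega
  simp only [elt, if_neg h', one_mul]

omit hι in
theorem elt_zero (gs : List G) : elt gs 0 = 1 := by
  induction gs with
  | nil => rfl
  | cons g gs ih => rw [elt_cons_even g gs (by norm_num)]; simpa using ih

omit hι in
theorem Good.elt_comm {gs : List G} {T : List (List ℕ)} (h : Good ι gs T) (a n : ℕ) :
    elt gs a * ι n = ι n * elt gs a := by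
  induction gs generalizing T a with
  | nil => simp [elt]
  | cons g gs ih =>
    cases T with
    | nil => exact h.elim
    | cons r T =>
      obtain ⟨⟨-, h2, -⟩, h3⟩ := h
      rcases Nat.mod_two_eq_zero_or_one a with ha | ha
      · rw [elt_cons_even g gs ha]; exact ih h3 _
      · rw [elt_cons_odd g gs ha, mul_assoc, ih h3, ← mul_assoc, h2, mul_assoc]

theorem Row.elt {g : G} {gs : List G} {r : List ℕ} {T : List (List ℕ)} (h : Row ι g gs r) (hT : Good ι gs T)
    (_hg : ∀ n, g * ι n = ι n * g) (a : ℕ) : g * elt gs a = elt gs a * g * ι (dot r a) := by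
  induction gs generalizing r T a with
  | nil =>
    cases r with
    | nil => simp [Code.elt, dot, ι_zero hι]
    | cons c r => exact h.elim
  | cons h' gs ih =>
    cases r with
    | nil => exact h.elim
    | cons c r =>
      cases T with
      | nil => exact hT.elim
      | cons r' T =>
        obtain ⟨h1, h2⟩ := h
        obtain ⟨⟨-, hc, -⟩, hT2⟩ := hT
        have e := ih h2 hT2 (a / 2)
        rcases Nat.mod_two_eq_zero_or_one a with ha | ha
        · have h' : ¬ a % 2 = 1 := by omega
          rw [elt_cons_even _ gs ha, e]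
          simp only [dot, if_neg h', Nat.zero_xor]
        · rw [elt_cons_odd _ gs ha]
          simp only [dot, if_pos ha]
          rw [hι]
          calc g * (h' * Code.elt gs (a / 2)) = (g * h') * Code.elt gs (a / 2) := by rw [mul_assoc]
            _ = h' * g * (ι c * Code.elt gs (a / 2)) := by rw [h1]; simp only [mul_assoc]
            _ = h' * (g * Code.elt gs (a / 2)) * ι c := by
                rw [← hT2.elt_comm]; simp only [mul_assoc]
            _ = h' * Code.elt gs (a / 2) * g * (ι (dot r (a / 2)) * ι c) := by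
                rw [e]; simp only [mul_assoc]
            _ = _ := by rw [ι_comm hι]

theorem Good.bf {gs : List G} {T : List (List ℕ)} (h : Good ι gs T) (a b : ℕ) :
    elt gs a * elt gs b = elt gs b * elt gs a * ι (Bf T a b) := by
  induction gs generalizing T a b with
  | nil =>
    cases T with
    | nil => simp [elt, Bf, ι_zero hι]
    | cons r T => exact h.elim
  | cons g gs ih =>
    cases T with
    | nil => exact h.elim
    | cons r T =>
      obtain ⟨⟨h1, h2, h3⟩, h4⟩ := h
      have hc := fun m n => h4.elt_comm m n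
      have hr := h3.elt hι h4 h2
      have e := ih h4 (a / 2) (b / 2)
      set A := elt gs (a / 2) with hA
      set B := elt gs (b / 2) with hB
      set β := Bf T (a / 2) (b / 2) with hβ
      have cA : ∀ n, A * ι n = ι n * A := fun n => hc _ n
      have cB : ∀ n, B * ι n = ι n * B := fun n => hc _ n
      have rA : g * A = A * g * ι (dot r (a / 2)) := hr (a / 2)
      have rB : g * B = B * g * ι (dot r (b / 2)) := hr (b / 2)
      have rA' : A * g = g * A * ι (dot r (a / 2)) := by
        rw [rA, mul_assoc (A * g), ι_sq hι, mul_one]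
      rcases Nat.mod_two_eq_zero_or_one a with ha | ha <;> rcases Nat.mod_two_eq_zero_or_one b with hb | hb
      · have ha' : ¬ a % 2 = 1 := by omega
        have hb' : ¬ b % 2 = 1 := by omega
        rw [elt_cons_even g gs ha, elt_cons_even g gs hb, ← hA, ← hB, e]
        simp only [Bf, if_neg ha', if_neg hb', Nat.zero_xor, ← hβ]
      · have ha' : ¬ a % 2 = 1 := by omega
        rw [elt_cons_even g gs ha, elt_cons_odd g gs hb, ← hA, ← hB]
        simp only [Bf, if_neg ha', if_pos hb, Nat.zero_xor, ← hβ]
        rw [hι]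
        calc A * (g * B) = (A * g) * B := by rw [mul_assoc]
          _ = g * A * (ι (dot r (a / 2)) * B) := by rw [rA']; simp only [mul_assoc]
          _ = g * (A * B) * ι (dot r (a / 2)) := by rw [← cB]; simp only [mul_assoc]
          _ = g * B * A * (ι β * ι (dot r (a / 2))) := by rw [e]; simp only [mul_assoc]
          _ = _ := by rw [ι_comm hι β]
      · have hb' : ¬ b % 2 = 1 := by omega
        rw [elt_cons_odd g gs ha, elt_cons_even g gs hb, ← hA, ← hB]
        simp only [Bf, if_pos ha, if_neg hb', Nat.zero_xor, ← hβ]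
        rw [hι]
        calc g * A * B = g * (A * B) := by rw [mul_assoc]
          _ = g * B * (A * ι β) := by rw [e]; simp only [mul_assoc]
          _ = B * g * (ι (dot r (b / 2)) * A) * ι β := by rw [rB]; simp only [mul_assoc]
          _ = B * (g * A) * (ι (dot r (b / 2)) * ι β) := by rw [← cA]; simp only [mul_assoc]
      · rw [elt_cons_odd g gs ha, elt_cons_odd g gs hb, ← hA, ← hB]
        simp only [Bf, if_pos ha, if_pos hb, ← hβ]
        rw [hι, hι]
        calc g * A * (g * B) = g * (A * g) * B := by simp only [mul_assoc]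
          _ = g * g * A * (ι (dot r (a / 2)) * B) := by rw [rA']; simp only [mul_assoc]
          _ = (A * B) * ι (dot r (a / 2)) := by rw [h1, one_mul, ← cB]; simp only [mul_assoc]
          _ = B * A * ι β * ι (dot r (a / 2)) := by rw [e]
          _ = g * (g * B) * A * ι β * ι (dot r (a / 2)) := by
              rw [← mul_assoc g g B, h1, one_mul]
          _ = g * (B * g) * (ι (dot r (b / 2)) * A) * ι β * ι (dot r (a / 2)) := by
              rw [rB]; simp only [mul_assoc]
          _ = g * B * (g * A) * (ι (dot r (b / 2)) * (ι β * ι (dot r (a / 2)))) := by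
              rw [← cA]; simp only [mul_assoc]
          _ = _ := by rw [ι_comm hι β]

theorem Good.sq {gs : List G} {T : List (List ℕ)} (h : Good ι gs T) (a : ℕ) :
    elt gs a * elt gs a = ι (Qf T a) := by
  induction gs generalizing T a with
  | nil =>
    cases T with
    | nil => simp [elt, Qf, ι_zero hι]
    | cons r T => exact h.elim
  | cons g gs ih =>
    cases T with
    | nil => exact h.elim
    | cons r T =>
      obtain ⟨⟨h1, h2, h3⟩, h4⟩ := h
      have hc := fun m n => h4.elt_comm m n
      have hr := h3.elt hι h4 h2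
      have e := ih h4 (a / 2)
      set A := elt gs (a / 2) with hA
      have cA : ∀ n, A * ι n = ι n * A := fun n => hc _ n
      have rA : g * A = A * g * ι (dot r (a / 2)) := hr (a / 2)
      have rA' : A * g = g * A * ι (dot r (a / 2)) := by
        rw [rA, mul_assoc (A * g), ι_sq hι, mul_one]
      rcases Nat.mod_two_eq_zero_or_one a with ha | ha
      · have ha' : ¬ a % 2 = 1 := by omega
        rw [elt_cons_even g gs ha, ← hA, e]
        simp only [Qf, if_neg ha', Nat.zero_xor]
      · rw [elt_cons_odd g gs ha, ← hA]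
        simp only [Qf, if_pos ha]
        rw [hι]
        calc g * A * (g * A) = g * (A * g) * A := by simp only [mul_assoc]
          _ = g * g * A * (ι (dot r (a / 2)) * A) := by rw [rA']; simp only [mul_assoc]
          _ = A * A * ι (dot r (a / 2)) := by rw [h1, one_mul, ← cA]; simp only [mul_assoc]
          _ = _ := by rw [e, ι_comm hι]

theorem Good.mul {gs : List G} {T : List (List ℕ)} (h : Good ι gs T) (a b : ℕ) :
    ∃ n, elt gs a * elt gs b = elt gs (a ^^^ b) * ι n := by
  induction gs generalizing T a b with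
  | nil => exact ⟨0, by simp [elt, ι_zero hι]⟩
  | cons g gs ih =>
    cases T with
    | nil => exact h.elim
    | cons r T =>
      obtain ⟨⟨h1, h2, h3⟩, h4⟩ := h
      have hc := fun m n => h4.elt_comm m n
      have hr := h3.elt hι h4 h2
      obtain ⟨n, e⟩ := ih h4 (a / 2) (b / 2)
      set A := elt gs (a / 2) with hA
      set B := elt gs (b / 2) with hB
      have cA : ∀ n, A * ι n = ι n * A := fun n => hc _ n
      have cB : ∀ n, B * ι n = ι n * B := fun n => hc _ n
      have rA : g * A = A * g * ι (dot r (a / 2)) := hr (a / 2)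
      have rA' : A * g = g * A * ι (dot r (a / 2)) := by
        rw [rA, mul_assoc (A * g), ι_sq hι, mul_one]
      rcases Nat.mod_two_eq_zero_or_one a with ha | ha <;> rcases Nat.mod_two_eq_zero_or_one b with hb | hb
      · refine ⟨n, ?_⟩
        rw [elt_cons_even g gs ha, elt_cons_even g gs hb,
          elt_cons_even g gs (by rw [xor_mod_two, ha, hb]), xor_div_two, ← hA, ← hB, e]
      · refine ⟨n ^^^ dot r (a / 2), ?_⟩
        rw [elt_cons_even g gs ha, elt_cons_odd g gs hb,
          elt_cons_odd g gs (by rw [xor_mod_two, ha, hb]), xor_div_two, ← hA, ← hB, hι]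
        calc A * (g * B) = (A * g) * B := by rw [mul_assoc]
          _ = g * A * (ι (dot r (a / 2)) * B) := by rw [rA']; simp only [mul_assoc]
          _ = g * (A * B) * ι (dot r (a / 2)) := by rw [← cB]; simp only [mul_assoc]
          _ = _ := by rw [e]; simp only [mul_assoc]
      · refine ⟨n, ?_⟩
        rw [elt_cons_odd g gs ha, elt_cons_even g gs hb,
          elt_cons_odd g gs (by rw [xor_mod_two, ha, hb]), xor_div_two, ← hA, ← hB, mul_assoc, e, mul_assoc]
      · refine ⟨n ^^^ dot r (a / 2), ?_⟩
        rw [elt_cons_odd g gs ha, elt_cons_odd g gs hb,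
          elt_cons_even g gs (by rw [xor_mod_two, ha, hb]), xor_div_two, ← hA, ← hB, hι]
        calc g * A * (g * B) = g * (A * g) * B := by simp only [mul_assoc]
          _ = g * g * A * (ι (dot r (a / 2)) * B) := by rw [rA']; simp only [mul_assoc]
          _ = (A * B) * ι (dot r (a / 2)) := by rw [h1, one_mul, ← cB]; simp only [mul_assoc]
          _ = _ := by rw [e]; simp only [mul_assoc]

omit hι in
/-- conjugation -/
theorem conj_elt (f : G) (gs : List G) (a : ℕ) : f * elt gs a * f⁻¹ = elt (gs.map fun g => f * g * f⁻¹) a := by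
  induction gs generalizing a with
  | nil => simp [elt]
  | cons g gs ih =>
    rw [List.map_cons]
    rcases Nat.mod_two_eq_zero_or_one a with ha | ha
    · rw [elt_cons_even _ _ ha, elt_cons_even _ _ ha, ih]
    · rw [elt_cons_odd _ _ ha, elt_cons_odd _ _ ha, ← ih]
      group

/-- substitution: `hᵢ = elt gs Rᵢ` modulo `ι` -/
theorem Good.subst {gs : List G} {T : List (List ℕ)} (h : Good ι gs T) {hs : List G} {R : List ℕ}
    (hR : List.Forall₂ (fun x r => ∃ n, x = elt gs r * ι n) hs R) (a : ℕ) :
    ∃ n, elt hs a = elt gs (dot R a) * ι n := by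
  induction hR generalizing a with
  | nil => exact ⟨0, by simp [elt, dot, ι_zero hι, elt_zero]⟩
  | @cons x r hs R hx _ ih =>
    obtain ⟨m, hm⟩ := hx
    obtain ⟨n, hn⟩ := ih (a / 2)
    rcases Nat.mod_two_eq_zero_or_one a with ha | ha
    · have ha' : ¬ a % 2 = 1 := by omega
      refine ⟨n, ?_⟩
      rw [elt_cons_even _ _ ha, hn]
      simp only [dot, if_neg ha', Nat.zero_xor]
    · obtain ⟨k, hk⟩ := h.mul hι r (dot R (a / 2))
      refine ⟨k ^^^ (m ^^^ n), ?_⟩
      rw [elt_cons_odd _ _ ha, hn, hm, hι, hι]
      simp only [dot, if_pos ha]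
      calc elt gs r * ι m * (elt gs (dot R (a / 2)) * ι n)
          = elt gs r * (ι m * elt gs (dot R (a / 2))) * ι n := by simp only [mul_assoc]
        _ = elt gs r * elt gs (dot R (a / 2)) * (ι m * ι n) := by rw [← h.elt_comm]; simp only [mul_assoc]
        _ = _ := by rw [hk]; simp only [mul_assoc]

end Iota

end Cfsg.Agent.Omega.NOThree.Ru.Code
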