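import Cfsg.Agent.Omega.NOThree.Ru.CU

/-!
# The plane configuration: `C_G(L p) = ⟨p⟩`, `C(Y) = U`, `C(U) = Y`
-/

set_option autoImplicit false

namespace Cfsg.Agent.Omega.NOThree.Ru

open Subgroup Cfsg Cfsg.Agent.MinSimple.Geo Code Cfsg.Agent.Omega.NOThree.Ru.Norm

variable {G : Type*} [Group G]

namespace Frame

variable {z : G} {U : Subgroup G} {W K L : G → Subgroup G} {x0 x1 x2 f t a b : G}

theorem X_inj {i j : ℕ} (hi : i < 7) (hj : j < 7) (e : X i = X j) : i = j := by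
  have : ∀ i < 7, ∀ j < 7, X i = X j → i = j := by decide
  exact this i hi j hj e

/-- `C_G(L x0) = ⟨x0⟩` -/
theorem L_fix0 (F : Frame U W K x0 x1 x2 f t a b) (h : Plane z U W K L) {c : G}
    (hc : ∀ l ∈ L x0, c * l = l * c) : c = 1 ∨ c = x0 := by
  by_contra hcon
  push Not at hcon
  obtain ⟨c1, cx⟩ := hcon
  have p0 := F.ind.p_mem
  have p1 := F.ind.p_ne
  have hD : c ∈ centralizer (YU U W : Set G) := by
    rw [Plane.mem_D_iff]
    intro q hq hq1 w hw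
    exact hc w (h.W_le_L _ p0 p1 q hq hq1 hw)
  let e : Bool → G := fun ε => if ε then c else c * x0
  have eL : ∀ ε, ∀ l ∈ L x0, e ε * l = l * e ε := by
    intro ε l hl
    cases ε
    · change c * x0 * l = l * (c * x0)
      rw [mul_assoc, ← h.L_cent _ p0 p1 l hl, ← mul_assoc, hc l hl, mul_assoc]
    · exact hc l hl
  have e1 : ∀ ε, e ε ≠ 1 := by
    intro ε
    cases ε
    · change c * x0 ≠ 1
      intro h1
      apply cx
      rw [mul_eq_one_iff_eq_inv, h.inv_U p0] at h1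
      exact h1
    · exact c1
  have eU : ∀ ε, e ε * c⁻¹ ∈ U := by
    intro ε
    cases ε
    · change c * x0 * c⁻¹ ∈ U
      rw [Plane.conj_C (h.D_le_C hD) p0]; exact p0
    · change c * c⁻¹ ∈ U
      rw [mul_inv_cancel]; exact one_mem _
  have eD : ∀ ε, e ε ∈ centralizer (YU U W : Set G) := by
    intro ε
    cases ε
    · exact mul_mem hD (h.U_le_D p0)
    · exact hD
  have gU : ∀ (i : ℕ) ε, f ^ i * e ε * (f ^ i)⁻¹ * c⁻¹ ∈ U := by
    intro i ε
    have h1 := (h.nice_pow F.nf i).D _ (eD ε)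
    have : f ^ i * e ε * (f ^ i)⁻¹ * c⁻¹ = f ^ i * e ε * (f ^ i)⁻¹ * (e ε)⁻¹ * (e ε * c⁻¹) := by group
    rw [this]; exact mul_mem h1 (eU ε)
  let g : Fin 7 × Bool → U := fun x => ⟨f ^ (x.1 : ℕ) * e x.2 * (f ^ (x.1 : ℕ))⁻¹ * c⁻¹, gU _ _⟩
  have ginj : Function.Injective g := by
    rintro ⟨i, ε⟩ ⟨j, δ⟩ hij
    have h1 : f ^ (i : ℕ) * e ε * (f ^ (i : ℕ))⁻¹ * c⁻¹ = f ^ (j : ℕ) * e δ * (f ^ (j : ℕ))⁻¹ * c⁻¹ :=
      congrArg Subtype.val hij
    have h2 := mul_right_cancel h1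
    by_cases hne : i = j
    · subst hne
      have h3 : e ε = e δ := by
        have := mul_right_cancel h2
        exact mul_left_cancel this
      have : ε = δ := by
        cases ε <;> cases δ
        · rfl
        · exact absurd (mul_eq_left.1 (h3 : c * x0 = c)) p1
        · exact absurd (mul_eq_left.1 (h3.symm : c * x0 = c)) p1
        · rfl
      rw [this]
    · exfalso
      have hX : io x0 x1 x2 (X i) ≠ io x0 x1 x2 (X j) := by
        intro h4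
        apply hne
        apply Fin.ext
        exact X_inj i.2 j.2 (F.io_inj h (X_lt _).1 (X_lt _).1 h4)
      have cl : ∀ (i : ℕ) ε, ∀ l ∈ L (io x0 x1 x2 (X i)),
          f ^ i * e ε * (f ^ i)⁻¹ * l = l * (f ^ i * e ε * (f ^ i)⁻¹) := by
        intro i ε l hl
        have h5 : (f ^ i)⁻¹ * l * f ^ i ∈ L x0 := by
          have := conj_mem_cj (g := (f ^ i)⁻¹) hl
          rw [h.cj_L, ← F.conj_pow_X h i, inv_inv] at this
          have e : (f ^ i)⁻¹ * (f ^ i * x0 * (f ^ i)⁻¹) * f ^ i = x0 := by group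
          rwa [e] at this
        have h6 := eL ε _ h5
        calc f ^ i * e ε * (f ^ i)⁻¹ * l = f ^ i * (e ε * ((f ^ i)⁻¹ * l * f ^ i)) * (f ^ i)⁻¹ := by group
          _ = _ := by rw [h6]; group
      have h7 := h.L_inf _ (F.io_mem _) (F.pt h i) _ (F.io_mem _) (F.pt h j) hX
        (f ^ (i : ℕ) * e ε * (f ^ (i : ℕ))⁻¹) (cl i ε) (by rw [h2]; exact cl j δ)
      apply e1 ε
      calc e ε = (f ^ (i : ℕ))⁻¹ * (f ^ (i : ℕ) * e ε * (f ^ (i : ℕ))⁻¹) * f ^ (i : ℕ) := by group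
        _ = 1 := by rw [h7]; group
  have hfin : Finite U := Nat.finite_of_card_ne_zero (by rw [h.card_U]; norm_num)
  have := Nat.card_le_card_of_injective g ginj
  rw [h.card_U, Nat.card_prod, Nat.card_eq_fintype_card, Nat.card_eq_fintype_card] at this
  simp at this

/-- `C_G(L p) = ⟨p⟩` -/
theorem L_fix (F : Frame U W K x0 x1 x2 f t a b) (h : Plane z U W K L) {p : G} (hp : p ∈ U) (hp1 : p ≠ 1)
    {c : G} (hc : ∀ l ∈ L p, c * l = l * c) : c = 1 ∨ c = p := by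
  obtain ⟨j, -, rfl⟩ := F.exists_X h hp hp1
  rw [← F.conj_pow_X h j] at hc ⊢
  have h1 : ∀ l ∈ L x0, (f ^ j)⁻¹ * c * f ^ j * l = l * ((f ^ j)⁻¹ * c * f ^ j) := by
    intro l hl
    have h2 : f ^ j * l * (f ^ j)⁻¹ ∈ L (f ^ j * x0 * (f ^ j)⁻¹) := by
      rw [← h.cj_L]; exact conj_mem_cj hl
    have h3 := hc _ h2
    calc (f ^ j)⁻¹ * c * f ^ j * l = (f ^ j)⁻¹ * (c * (f ^ j * l * (f ^ j)⁻¹)) * f ^ j := by group
      _ = _ := by rw [h3]; group
  rcases F.L_fix0 h h1 with h2 | h2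
  · left
    calc c = f ^ j * ((f ^ j)⁻¹ * c * f ^ j) * (f ^ j)⁻¹ := by group
      _ = 1 := by rw [h2]; group
  · right
    calc c = f ^ j * ((f ^ j)⁻¹ * c * f ^ j) * (f ^ j)⁻¹ := by group
      _ = _ := by rw [h2]

/-- `[D, K p] ≤ ⟨p⟩` -/
theorem comm_DK (F : Frame U W K x0 x1 x2 f t a b) (h : Plane z U W K L) {p : G} (hp : p ∈ U) (hp1 : p ≠ 1)
    {d k : G} (hd : d ∈ centralizer (YU U W : Set G)) (hk : k ∈ K p) :
    k * d * k⁻¹ * d⁻¹ = 1 ∨ k * d * k⁻¹ * d⁻¹ = p := by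
  refine F.L_fix h hp hp1 (h.L_gen p hp hp1 _ ?_)
  intro l hl
  have hlp : l * p = p * l := h.L_cent p hp hp1 l hl
  have hlp' : l * p * l⁻¹ = p := by rw [hlp, mul_inv_cancel_right]
  have hkp : k * p = p * k := h.K_cent p hp hp1 k hk
  have ppW : p ∈ W p := h.U_le p hp hp1 hp
  set d' := l * d * l⁻¹ with hd'
  have hdB : d ∈ centralizer (W p : Set G) := h.D_le_B hp hp1 hd
  set w1 := l * d * l⁻¹ * d⁻¹ with hw1
  have w1W : w1 ∈ W p := h.L_B p hp hp1 l hl d hdB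
  set e := k * d' * k⁻¹ * d'⁻¹ with he
  -- `d'` commutes with `W (l q l⁻¹)`
  have d'c : ∀ q ∈ U, q ≠ 1 → ∀ w ∈ W (l * q * l⁻¹), d' * w = w * d' := by
    intro q hq hq1 w hw
    have h1 : l⁻¹ * w * l ∈ W q := by
      have := conj_mem_cj (g := l⁻¹) hw
      rw [h.cj_W, inv_inv] at this
      have e : l⁻¹ * (l * q * l⁻¹) * l = q := by group
      rwa [e] at this
    have h2 := Plane.mem_D_iff.1 hd q hq hq1 _ h1
    calc d' * w = l * (d * (l⁻¹ * w * l)) * l⁻¹ := by rw [hd']; group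
      _ = _ := by rw [h2, hd']; group
  -- `p` commutes with `W (l q l⁻¹)`
  have pc : ∀ q ∈ U, q ≠ 1 → ∀ w ∈ W (l * q * l⁻¹), p * w = w * p := by
    intro q hq hq1 w hw
    have h1 : l⁻¹ * w * l ∈ W q := by
      have := conj_mem_cj (g := l⁻¹) hw
      rw [h.cj_W, inv_inv] at this
      have e : l⁻¹ * (l * q * l⁻¹) * l = q := by group
      rwa [e] at this
    have h2 := h.comm_W hq hq1 (h.U_le q hq hq1 hp) h1
    calc p * w = l * p * l⁻¹ * w := by rw [hlp']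
      _ = l * (p * (l⁻¹ * w * l)) * l⁻¹ := by group
      _ = l * (l⁻¹ * w * l) * (p * l⁻¹) := by rw [h2]; group
      _ = w * (l * p * l⁻¹) := by group
      _ = _ := by rw [hlp']
  -- `k` permutes the `W (l q l⁻¹)`
  have kq : ∀ q ∈ U, q ≠ 1 → ∃ q' ∈ U, q' ≠ 1 ∧ k⁻¹ * (l * q * l⁻¹) * k = l * q' * l⁻¹ := by
    intro q hq hq1
    have h1 : l * q * l⁻¹ ∈ W p := h.conj_W hlp' (h.U_le p hp hp1 hq)
    have h2 := h.K_act p hp hp1 k⁻¹ (inv_mem hk) _ h1
    rw [inv_inv] at h2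
    rcases h2 with h2 | h2
    · exact ⟨q, hq, hq1, h2⟩
    · refine ⟨q * p, mul_mem hq hp, ?_, ?_⟩
      · intro h3
        have h4 : l * q * l⁻¹ * p = 1 := by
          calc l * q * l⁻¹ * p = l * q * l⁻¹ * (l * p * l⁻¹) := by rw [hlp']
            _ = l * (q * p) * l⁻¹ := by group
            _ = 1 := by rw [h3]; group
        rw [h4] at h2
        apply hq1
        calc q = l⁻¹ * (k * (k⁻¹ * (l * q * l⁻¹) * k) * k⁻¹) * l := by group
          _ = 1 := by rw [h2]; group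
      · rw [h2]
        calc l * q * l⁻¹ * p = l * q * l⁻¹ * (l * p * l⁻¹) := by rw [hlp']
          _ = _ := by group
  -- `e` commutes with the `W (l q l⁻¹)`
  have ec : ∀ q ∈ U, q ≠ 1 → ∀ w ∈ W (l * q * l⁻¹), e * w = w * e := by
    intro q hq hq1 w hw
    obtain ⟨q', hq', hq1', e1⟩ := kq q hq hq1
    have h1 : k⁻¹ * w * k ∈ W (l * q' * l⁻¹) := by
      have := conj_mem_cj (g := k⁻¹) hw
      rw [h.cj_W, inv_inv] at this
      rwa [← e1]
    have h2 := d'c q' hq' hq1' _ h1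
    have h3 : k * d' * k⁻¹ * w = w * (k * d' * k⁻¹) := by
      calc k * d' * k⁻¹ * w = k * (d' * (k⁻¹ * w * k)) * k⁻¹ := by group
        _ = _ := by rw [h2]; group
    have h4 := d'c q hq hq1 w hw
    calc e * w = k * d' * k⁻¹ * (d'⁻¹ * (w * d') * d'⁻¹) := by rw [he]; group
      _ = k * d' * k⁻¹ * w * d'⁻¹ := by rw [← h4]; group
      _ = _ := by rw [h3, he]; group
  have ecp : ∀ w ∈ W p, e * w = w * e := by
    have := ec p hp hp1
    rw [hlp'] at this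
    exact this
  -- the commutator is `e` or `p e`
  have hdd : d = w1⁻¹ * d' := by rw [hw1, hd']; group
  have c1 : k * d * k⁻¹ * d⁻¹ = (k * w1⁻¹ * k⁻¹) * w1 * e := by
    have : e * w1 = w1 * e := ecp w1 w1W
    rw [mul_assoc (k * w1⁻¹ * k⁻¹) w1 e, ← this]
    conv_lhs => rw [hdd]
    rw [he]; group
  have c2 : k * d * k⁻¹ * d⁻¹ = e ∨ k * d * k⁻¹ * d⁻¹ = p * e := by
    rcases h.K_act p hp hp1 k hk w1⁻¹ (inv_mem w1W) with h1 | h1
    · left; rw [c1, h1]; group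
    · right
      rw [c1, h1]
      have := h.comm_W hp hp1 ppW w1W
      calc w1⁻¹ * p * w1 * e = w1⁻¹ * (p * w1) * e := by group
        _ = _ := by rw [this]; group
  intro q hq hq1 w hw
  rcases c2 with c2 | c2
  · rw [c2]; exact ec q hq hq1 w hw
  · rw [c2, mul_assoc, ec q hq hq1 w hw, ← mul_assoc, pc q hq hq1 w hw, mul_assoc]

/-- an element of `D` which centralises `K p` lies in `⟨p⟩` -/
theorem K_trivial (F : Frame U W K x0 x1 x2 f t a b) (h : Plane z U W K L) {p : G} (hp : p ∈ U) (hp1 : p ≠ 1)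
    {c : G} (hd : c ∈ centralizer (YU U W : Set G)) (hk : ∀ k ∈ K p, k * c = c * k) : c = 1 ∨ c = p := by
  refine F.L_fix h hp hp1 (h.L_gen p hp hp1 _ ?_)
  intro l hl q hq hq1 w hw
  have hlp : l * p = p * l := h.L_cent p hp hp1 l hl
  have hlp' : l * p * l⁻¹ = p := by rw [hlp, mul_inv_cancel_right]
  have hlp'' : l⁻¹ * p * l = p := by
    calc l⁻¹ * p * l = l⁻¹ * (l * p * l⁻¹) * l := by rw [hlp']
      _ = p := by group
  set w1 := l * c * l⁻¹ * c⁻¹ with hw1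
  have w1W : w1 ∈ W p := h.L_B p hp hp1 l hl c (h.D_le_B hp hp1 hd)
  have h1 : ∀ k ∈ K p, k * w1 = w1 * k := by
    intro k hk'
    have h2 : l⁻¹ * k * l ∈ K p := by
      have := conj_mem_cj (g := l⁻¹) hk'
      rw [h.cj_K, inv_inv, hlp''] at this
      exact this
    have h3 := hk _ h2
    have h4 := hk _ hk'
    have h5 : k * (l * c * l⁻¹) = l * c * l⁻¹ * k := by
      calc k * (l * c * l⁻¹) = l * (l⁻¹ * k * l * c) * l⁻¹ := by group
        _ = _ := by rw [h3]; group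
    calc k * w1 = k * (l * c * l⁻¹) * c⁻¹ := by rw [hw1]; group
      _ = l * c * l⁻¹ * (c⁻¹ * (c * k) * c⁻¹) := by rw [h5]; group
      _ = _ := by rw [← h4, hw1]; group
  have hc : c = w1⁻¹ * (l * c * l⁻¹) := by rw [hw1]; group
  have hw' : l⁻¹ * w * l ∈ W q := by
    have := conj_mem_cj (g := l⁻¹) hw
    rw [h.cj_W, inv_inv] at this
    have e : l⁻¹ * (l * q * l⁻¹) * l = q := by group
    rwa [e] at this
  have h6 : l * c * l⁻¹ * w = w * (l * c * l⁻¹) := by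
    have h2 := Plane.mem_D_iff.1 hd q hq hq1 _ hw'
    calc l * c * l⁻¹ * w = l * (c * (l⁻¹ * w * l)) * l⁻¹ := by group
      _ = _ := by rw [h2]; group
  rcases h.K_fix p hp hp1 w1 w1W h1 with h2 | h2
  · rw [h2, inv_one, one_mul] at hc
    rw [hc]; exact h6
  · have h7 := h.comm_W hq hq1 (h.U_le q hq hq1 hp) hw'
    have h8 : p * w = w * p := by
      calc p * w = l * p * l⁻¹ * w := by rw [hlp']
        _ = l * (p * (l⁻¹ * w * l)) * l⁻¹ := by group
        _ = l * (l⁻¹ * w * l) * (p * l⁻¹) := by rw [h7]; group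
        _ = w * (l * p * l⁻¹) := by group
        _ = _ := by rw [hlp']
    rw [h2, h.inv_U hp] at hc
    rw [hc, mul_assoc, h6, ← mul_assoc, h8, mul_assoc]

/-- `D` is abelian -/
theorem D_comm (F : Frame U W K x0 x1 x2 f t a b) (h : Plane z U W K L) {d d' : G}
    (hd : d ∈ centralizer (YU U W : Set G)) (hd' : d' ∈ centralizer (YU U W : Set G)) : d * d' = d' * d := by
  have key : ∀ p ∈ U, p ≠ 1 → d * d' * d⁻¹ * d'⁻¹ = 1 ∨ d * d' * d⁻¹ * d'⁻¹ = p := by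
    intro p hp hp1
    refine F.K_trivial h hp hp1 (mul_mem (mul_mem (mul_mem hd hd') (inv_mem hd)) (inv_mem hd')) ?_
    intro k hk
    have cp : ∀ {x : G}, x ∈ centralizer (YU U W : Set G) → x * p = p * x :=
      fun hx => Plane.mem_D.1 hx p (h.U_le_Y hp)
    have e : ∀ {x : G}, x ∈ centralizer (YU U W : Set G) → ∃ u, u ∈ U ∧ k * x * k⁻¹ = u * x ∧
        (∀ y ∈ centralizer (YU U W : Set G), y * u = u * y) := by
      intro x hx
      rcases F.comm_DK h hp hp1 hx hk with h1 | h1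
      · exact ⟨1, one_mem _, by rw [← h1]; group, fun y _ => by group⟩
      · exact ⟨p, hp, by rw [← h1]; group, fun y hy => cp hy⟩
    obtain ⟨u, hu, e1, c1⟩ := e hd
    obtain ⟨v, hv, e2, c2⟩ := e hd'
    apply mul_inv_eq_iff_eq_mul.1
    have uv : u * v = v * u := h.comm_U hu hv
    calc k * (d * d' * d⁻¹ * d'⁻¹) * k⁻¹
        = (k * d * k⁻¹) * (k * d' * k⁻¹) * (k * d * k⁻¹)⁻¹ * (k * d' * k⁻¹)⁻¹ := by group
      _ = u * (d * v) * (d' * d⁻¹) * u⁻¹ * d'⁻¹ * v⁻¹ := by rw [e1, e2]; group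
      _ = u * v * (d * d' * d⁻¹ * u⁻¹) * d'⁻¹ * v⁻¹ := by rw [c2 d hd]; group
      _ = u * v * (u⁻¹ * (d * d' * d⁻¹)) * d'⁻¹ * v⁻¹ := by
          have : d * d' * d⁻¹ * u⁻¹ = u⁻¹ * (d * d' * d⁻¹) := by
            have := c1 _ (mul_mem (mul_mem hd hd') (inv_mem hd))
            calc d * d' * d⁻¹ * u⁻¹ = u⁻¹ * (u * (d * d' * d⁻¹)) * u⁻¹ := by group
              _ = u⁻¹ * (d * d' * d⁻¹ * u) * u⁻¹ := by rw [this]
              _ = _ := by group
          rw [this]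
      _ = v * (d * d' * d⁻¹ * d'⁻¹) * v⁻¹ := by
          rw [uv]; group
      _ = _ := by
          have := c2 _ (mul_mem (mul_mem (mul_mem hd hd') (inv_mem hd)) (inv_mem hd'))
          rw [← this]; group
  rcases key _ F.ind.p_mem F.ind.p_ne with h1 | h1
  · exact mul_inv_eq_iff_eq_mul.1 (mul_inv_eq_one.1 h1)
  · rcases key _ F.ind.q_mem F.ind.q_ne with h2 | h2
    · exact mul_inv_eq_iff_eq_mul.1 (mul_inv_eq_one.1 h2)
    · exact absurd (h1.symm.trans h2) F.ind.pq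

/-- `C(U)` centralises `D` -/
theorem C_comm_D (F : Frame U W K x0 x1 x2 f t a b) (h : Plane z U W K L) {c d : G}
    (hc : c ∈ centralizer (U : Set G)) (hd : d ∈ centralizer (YU U W : Set G)) : c * d = d * c := by
  obtain ⟨y, hy, e, he, rfl⟩ := F.C_eq_YD h hc
  rw [mul_assoc, F.D_comm h he hd, ← mul_assoc, ← Plane.mem_D.1 hd y hy, mul_assoc]

/-- `Ω₁(D)` -/
def Om (F : Frame U W K x0 x1 x2 f t a b) (h : Plane z U W K L) : Subgroup G where
  carrier := {s | s ∈ centralizer (YU U W : Set G) ∧ s * s = 1}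
  one_mem' := ⟨one_mem _, mul_one 1⟩
  mul_mem' := by
    rintro s r ⟨hs, ss⟩ ⟨hr, rr⟩
    refine ⟨mul_mem hs hr, ?_⟩
    calc s * r * (s * r) = s * (r * s) * r := by group
      _ = (s * s) * (r * r) := by rw [F.D_comm h hr hs]; group
      _ = 1 := by rw [ss, rr, one_mul]
  inv_mem' := by
    rintro s ⟨hs, ss⟩
    refine ⟨inv_mem hs, ?_⟩
    rw [← mul_inv_rev, ss, inv_one]

theorem K3_num : ∀ c1 ∈ [2, 3], ∀ c2 ∈ [4, 5], ∀ n < 8, dot [1, c1, c2]
    (HU (dot [1, c1, c2] (HU (HU (HU (HU (dot [1, c1, c2] (HU (HU (HU (HU n))))))))))) = n := by decide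

/-- the elements of `K x0` on `U` -/
theorem K3 (F : Frame U W K x0 x1 x2 f t a b) (h : Plane z U W K L) {k : G} (hk : k ∈ K x0) :
    k * (t * k * t⁻¹) * (t * (t * k * t⁻¹) * t⁻¹) ∈ centralizer (U : Set G) := by
  have i := F.ind
  have W0 : ∀ {u : G}, u ∈ U → u ∈ W x0 := fun hu => h.U_le _ i.p_mem i.p_ne hu
  have k0 : k * x0 * k⁻¹ = io x0 x1 x2 1 := by
    rw [h.K_cent _ i.p_mem i.p_ne k hk, mul_inv_cancel_right, io_one]
  have k1 : k * x1 * k⁻¹ = io x0 x1 x2 2 ∨ k * x1 * k⁻¹ = io x0 x1 x2 3 := by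
    rw [io_two, io_three, ← h.comm_U i.q_mem i.p_mem]
    exact h.K_act _ i.p_mem i.p_ne k hk _ (W0 i.q_mem)
  have k2 : k * x2 * k⁻¹ = io x0 x1 x2 4 ∨ k * x2 * k⁻¹ = io x0 x1 x2 5 := by
    rw [io_four, io_five, ← h.comm_U i.w_mem i.p_mem]
    exact h.K_act _ i.p_mem i.p_ne k hk _ (W0 i.w_mem)
  have main : ∀ c1 c2 : ℕ, (c1 = 2 ∨ c1 = 3) → (c2 = 4 ∨ c2 = 5) → k * x1 * k⁻¹ = io x0 x1 x2 c1 →
      k * x2 * k⁻¹ = io x0 x1 x2 c2 →
      k * (t * k * t⁻¹) * (t * (t * k * t⁻¹) * t⁻¹) ∈ centralizer (U : Set G) := by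
    intro c1 c2 hc1 hc2 e1 e2
    have kk := fun n => F.conj_io h k0 e1 e2 n
    rw [Plane.mem_C]
    intro u hu
    obtain ⟨n, hn, rfl⟩ := F.io_surj h hu
    apply mul_inv_eq_iff_eq_mul.1
    have e3 : k * (t * k * t⁻¹) * (t * (t * k * t⁻¹) * t⁻¹) * io x0 x1 x2 n *
        (k * (t * k * t⁻¹) * (t * (t * k * t⁻¹) * t⁻¹))⁻¹ =
        k * (t * (k * (t⁻¹ * (t * (t * (k * (t⁻¹ * (t⁻¹ * io x0 x1 x2 n * t) * t) * k⁻¹) * t⁻¹) * t⁻¹) * t)
          * k⁻¹) * t⁻¹) * k⁻¹ := by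
      simp only [mul_inv_rev, inv_inv, mul_assoc, inv_mul_cancel_left]
    have lt1 : ∀ n < 8, HU (HU n) < 8 := by decide
    have hlt : ∀ n < 8, HU n < 8 := by decide
    have klt : ∀ n, dot [1, c1, c2] n < 8 := fun n => dot_closed (· < 8) (by norm_num)
      (fun a b ha hb => xor_lt ha hb) _ (by
        rcases hc1 with rfl | rfl <;> rcases hc2 with rfl | rfl <;> decide) n
    rw [e3, F.t_inv h hn, F.t_inv h (lt1 n hn), kk, F.conj_h h, F.conj_h h,
      F.t_inv h (hlt _ (hlt _ (klt _))), kk, F.conj_h h, kk]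
    congr 1
    exact K3_num c1 (by simpa using hc1) c2 (by simpa using hc2) n hn
  rcases k1 with k1 | k1 <;> rcases k2 with k2 | k2
  exacts [main _ _ (Or.inl rfl) (Or.inl rfl) k1 k2, main _ _ (Or.inl rfl) (Or.inr rfl) k1 k2,
    main _ _ (Or.inr rfl) (Or.inl rfl) k1 k2, main _ _ (Or.inr rfl) (Or.inr rfl) k1 k2]

/-- `C(Y) = U` -/
theorem D_eq (F : Frame U W K x0 x1 x2 f t a b) (h : Plane z U W K L) :
    centralizer (YU U W : Set G) ≤ U := by
  by_contra hcon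
  obtain ⟨d, hd, hdU⟩ := SetLike.not_le_iff_exists.1 hcon
  -- an element `b'` of `D` outside `U` with square in `U`
  obtain ⟨b', hb', hbU, hb2⟩ : ∃ b' ∈ centralizer (YU U W : Set G), b' ∉ U ∧ b' * b' ∈ U := by
    obtain ⟨m, hm⟩ := h.two ⟨d, h.D_le_C hd⟩
    have hm' : d ^ 2 ^ m = 1 := congrArg Subtype.val hm
    classical
    have hex : ∃ m, d ^ 2 ^ m ∈ U := ⟨m, by rw [hm']; exact one_mem _⟩
    have h1 := Nat.find_spec hex
    set n := Nat.find hex with hn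
    have h0 : n ≠ 0 := by
      intro h0
      rw [h0, pow_zero, pow_one] at h1
      exact hdU h1
    refine ⟨d ^ 2 ^ (n - 1), pow_mem hd _, Nat.find_min hex (by omega), ?_⟩
    have : d ^ 2 ^ (n - 1) * d ^ 2 ^ (n - 1) = d ^ 2 ^ n := by
      rw [← pow_add, ← two_mul, ← pow_succ']
      congr 2; omega
    rw [this]; exact h1
  -- `b'` is an involution
  have hbb : b' * b' = 1 := by
    obtain ⟨m, hm, e⟩ := F.io_surj h hb2
    have h1 := F.nf.D b' hb'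
    set u := f * b' * f⁻¹ * b'⁻¹ with hu
    have h2 : b' * u = u * b' := Plane.mem_D.1 hb' u (h.U_le_Y h1)
    have h3 : f * (b' * b') * f⁻¹ = b' * b' := by
      calc f * (b' * b') * f⁻¹ = (f * b' * f⁻¹ * b'⁻¹) * b' * ((f * b' * f⁻¹ * b'⁻¹) * b') := by group
        _ = u * (b' * u) * b' := by rw [← hu]; group
        _ = (u * u) * (b' * b') := by rw [h2]; group
        _ = _ := by rw [h.sq_U u h1, one_mul]
    rw [e, F.conj_f h] at h3
    have lt : ∀ m < 8, FU m < 8 := by decide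
    have h4 := F.io_inj h (lt m hm) hm h3
    have key : ∀ m < 8, FU m = m → m = 0 := by decide
    rw [e, key m hm h4, io_zero]
  obtain ⟨g, hg, hft⟩ := F.ft_eq h
  have hS : ∀ {s : G}, s ∈ Om F h ↔ s ∈ centralizer (YU U W : Set G) ∧ s * s = 1 := Iff.rfl
  have cS : ∀ {g s : G}, (∀ u ∈ U, g⁻¹ * u * g ∈ U) → s ∈ Om F h → g * s * g⁻¹ ∈ Om F h := by
    intro g s hg hs
    rw [hS] at hs ⊢
    refine ⟨h.conj_D hg hs.1, ?_⟩
    calc g * s * g⁻¹ * (g * s * g⁻¹) = g * (s * s) * g⁻¹ := by group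
      _ = 1 := by rw [hs.2]; group
  obtain ⟨c₂, hc₂, ⟨s, hs, m, hm, e⟩, h1, h2⟩ := exists_fixed (S := Om F h)
    (M := ⊥) (T := U) (f := f) (t := t)
    (fun s hs => cS F.nf.nU' hs) (fun s hs => cS F.nh.nU' hs)
    (by
      intro s _ m hm
      rw [mem_bot] at hm ⊢
      rw [hm]; group)
    F.nf.nU F.nh.nU
    (by
      intro s hs m hm
      rw [Plane.conj_C (h.D_le_C (hS.1 hs).1) hm]; exact hm)
    (by
      intro s hs s' hs'
      rw [mem_bot, F.D_comm h (hS.1 hs).1 (hS.1 hs').1]; group)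
    (fun s hs => mem_bot.2 (hS.1 hs).2)
    (fun s hs => F.nf.D s (hS.1 hs).1) (fun s hs => F.nh.D s (hS.1 hs).1) F.f7
    (by
      intro s hs
      rw [mem_bot, F.C_comm_D h (F.t3_mem h) (hS.1 hs).1]; group)
    (by
      intro s hs hfs
      rw [mem_bot, mul_inv_eq_one] at hfs
      rw [mem_bot, mul_inv_eq_one]
      have h4 : f ^ 4 * s * (f ^ 4)⁻¹ = s := by
        calc f ^ 4 * s * (f ^ 4)⁻¹ = f * (f * (f * (f * s * f⁻¹) * f⁻¹) * f⁻¹) * f⁻¹ := by
              simp only [pow_succ, pow_zero]; group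
          _ = s := by rw [hfs, hfs, hfs, hfs]
      have h5 := F.C_comm_D h hg (hS.1 hs).1
      calc f * (t * s * t⁻¹) * f⁻¹ = (f * t) * s * (f * t)⁻¹ := by group
        _ = t * (g * (f ^ 4 * s * (f ^ 4)⁻¹) * g⁻¹) * t⁻¹ := by rw [hft]; group
        _ = t * (g * s * g⁻¹) * t⁻¹ := by rw [h4]
        _ = _ := by rw [h5]; group)
    (c := b') ⟨hb', hbb⟩
  rw [mem_bot] at hm
  rw [mem_bot, mul_inv_eq_one] at h1 h2
  have hc₂D := (hS.1 hc₂).1
  have hc₂U : c₂ ∉ U := by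
    intro h3
    apply hbU
    rw [hm, mul_one] at e
    have : b' = s⁻¹ * c₂ := by rw [e]; group
    rw [this]; exact mul_mem (inv_mem hs) h3
  have p0 := F.ind.p_mem
  have p1 := F.ind.p_ne
  have h3 : c₂ = 1 ∨ c₂ = x0 := by
    refine F.K_trivial h p0 p1 hc₂D ?_
    intro k hk
    rcases F.comm_DK h p0 p1 hc₂D hk with h4 | h4
    · exact mul_inv_eq_iff_eq_mul.1 (mul_inv_eq_one.1 h4)
    · exfalso
      have a0 : k * c₂ * k⁻¹ = x0 * c₂ := mul_inv_eq_iff_eq_mul.1 h4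
      have kx : k * x0 * k⁻¹ = x0 := by rw [h.K_cent _ p0 p1 k hk, mul_inv_cancel_right]
      have tx : t * x0 * t⁻¹ = x0 := F.h0
      have st : ∀ k : G, k * c₂ * k⁻¹ = x0 * c₂ ∧ k * x0 * k⁻¹ = x0 →
          (t * k * t⁻¹) * c₂ * (t * k * t⁻¹)⁻¹ = x0 * c₂ ∧ (t * k * t⁻¹) * x0 * (t * k * t⁻¹)⁻¹ = x0 := by
        rintro k ⟨e1, e2⟩
        have tc : t⁻¹ * c₂ * t = c₂ := by
          calc t⁻¹ * c₂ * t = t⁻¹ * (t * c₂ * t⁻¹) * t := by rw [h2]
            _ = c₂ := by group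
        have tx' : t⁻¹ * x0 * t = x0 := by
          calc t⁻¹ * x0 * t = t⁻¹ * (t * x0 * t⁻¹) * t := by rw [tx]
            _ = x0 := by group
        constructor
        · calc (t * k * t⁻¹) * c₂ * (t * k * t⁻¹)⁻¹ = t * (k * (t⁻¹ * c₂ * t) * k⁻¹) * t⁻¹ := by group
            _ = (t * x0 * t⁻¹) * (t * c₂ * t⁻¹) := by rw [tc, e1]; group
            _ = _ := by rw [tx, h2]
        · calc (t * k * t⁻¹) * x0 * (t * k * t⁻¹)⁻¹ = t * (k * (t⁻¹ * x0 * t) * k⁻¹) * t⁻¹ := by group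
            _ = x0 := by rw [tx', e2, tx]
      have a1 := st k ⟨a0, kx⟩
      have a2 := st _ a1
      have h5 := F.C_comm_D h (F.K3 h hk) hc₂D
      set k1 := t * k * t⁻¹ with hk1
      set k2 := t * k1 * t⁻¹ with hk2
      have h6 : k * k1 * k2 * c₂ * (k * k1 * k2)⁻¹ = x0 * (x0 * (x0 * c₂)) := by
        calc k * k1 * k2 * c₂ * (k * k1 * k2)⁻¹ = k * (k1 * (k2 * c₂ * k2⁻¹) * k1⁻¹) * k⁻¹ := by group
          _ = k * ((k1 * x0 * k1⁻¹) * (k1 * c₂ * k1⁻¹)) * k⁻¹ := by rw [a2.1]; group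
          _ = (k * x0 * k⁻¹) * (k * x0 * k⁻¹) * (k * c₂ * k⁻¹) := by rw [a1.1, a1.2]; group
          _ = _ := by rw [kx, a0]; group
      rw [h5, mul_inv_cancel_right, ← mul_assoc, h.sq_U _ p0, one_mul] at h6
      exact p1 (right_eq_mul.1 h6)
  rcases h3 with h3 | h3
  · exact hc₂U (by rw [h3]; exact one_mem _)
  · exact hc₂U (by rw [h3]; exact p0)

/-- `C(U) = Y` -/
theorem C_eq (F : Frame U W K x0 x1 x2 f t a b) (h : Plane z U W K L) :
    centralizer (U : Set G) = YU U W := by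
  refine le_antisymm ?_ h.Y_le
  intro c hc
  obtain ⟨y, hy, d, hd, rfl⟩ := F.C_eq_YD h hc
  exact mul_mem hy (h.U_le_Y (F.D_eq h hd))

end Frame

end Cfsg.Agent.Omega.NOThree.Ru
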