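import Cfsg.Agent.Omega.NOThree.Ru.Table

/-!
# The plane configuration: all the commutators

`Frame.tab` : `[E k, E l] = io (mm k l)`; `Frame.good` : the table is `Good` for each list of numbers `< 14`.
-/

set_option autoImplicit false

namespace Cfsg.Agent.Omega.NOThree.Ru

open Subgroup Cfsg Cfsg.Agent.MinSimple.Geo Code

variable {G : Type*} [Group G]

theorem E_two (f a b : G) (k : ℕ) : E f a b (k + 2) = f * E f a b k * f⁻¹ := by
  have h1 : (k + 2) % 2 = k % 2 := by omega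
  have h2 : (k + 2) / 2 = k / 2 + 1 := by omega
  unfold E
  rw [h1, h2]
  split_ifs
  · rw [A_succ]
  · rw [A_succ]

theorem E_fourteen {f a b : G} (hf : f ^ 7 = 1) (k : ℕ) : E f a b (k + 14) = E f a b k := by
  have h1 : (k + 14) % 2 = k % 2 := by omega
  have h2 : (k + 14) / 2 = k / 2 + 7 := by omega
  unfold E
  rw [h1, h2, A_seven hf, A_seven hf]

/-- the triangular table of a list of numbers -/
def Tof : List ℕ → List (List ℕ)
  | [] => []
  | k :: ks => ks.map (mm k) :: Tof ks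

namespace Frame

variable {z : G} {U : Subgroup G} {W K L : G → Subgroup G} {x0 x1 x2 f t a b : G}

theorem tab0 (F : Frame U W K x0 x1 x2 f t a b) (h : Plane z U W K L) :
    ∀ l < 14, E f a b 0 * E f a b l = E f a b l * E f a b 0 * io x0 x1 x2 (mm 0 l) := by
  have ab : A f a 0 * A f b 0 = A f b 0 * A f a 0 * io x0 x1 x2 0 := by
    rw [io_zero, mul_one, A_zero, A_zero]
    exact h.comm_W F.ind.p_mem F.ind.p_ne F.fa.mem F.fb.mem
  have aa : A f a 0 * A f a 0 = A f a 0 * A f a 0 * io x0 x1 x2 0 := by rw [io_zero, mul_one]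
  intro l hl
  interval_cases l
  exacts [aa, ab, F.cA1A h, F.cA1B h, F.cA2A h, F.cA2B h, F.cA3A h, F.cA3B h, F.cA4A h, F.cA4B h, F.cA5A h,
    F.cA5B h, F.cA6A h, F.cA6B h]

theorem tab1 (F : Frame U W K x0 x1 x2 f t a b) (h : Plane z U W K L) :
    ∀ l < 14, E f a b 1 * E f a b l = E f a b l * E f a b 1 * io x0 x1 x2 (mm 1 l) := by
  have ba : A f b 0 * A f a 0 = A f a 0 * A f b 0 * io x0 x1 x2 0 := by
    rw [io_zero, mul_one, A_zero, A_zero]
    exact h.comm_W F.ind.p_mem F.ind.p_ne F.fb.mem F.fa.mem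
  have bb : A f b 0 * A f b 0 = A f b 0 * A f b 0 * io x0 x1 x2 0 := by rw [io_zero, mul_one]
  intro l hl
  interval_cases l
  exacts [ba, bb, F.cB1A h, F.cB1B h, F.cB2A h, F.cB2B h, F.cB3A h, F.cB3B h, F.cB4A h, F.cB4B h, F.cB5A h,
    F.cB5B h, F.cB6A h, F.cB6B h]

theorem tab (F : Frame U W K x0 x1 x2 f t a b) (h : Plane z U W K L) :
    ∀ k < 14, ∀ l < 14, E f a b k * E f a b l = E f a b l * E f a b k * io x0 x1 x2 (mm k l)
  | 0, _ => F.tab0 h
  | 1, _ => F.tab1 h
  | k + 2, hk => by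
    have ih := F.tab h k (by omega)
    have st : ∀ l, ∀ c, E f a b k * E f a b l = E f a b l * E f a b k * io x0 x1 x2 c →
        E f a b (k + 2) * E f a b (l + 2) = E f a b (l + 2) * E f a b (k + 2) * io x0 x1 x2 (FU c) := by
      intro l c e
      rw [E_two, E_two, ← F.conj_f h]
      calc f * E f a b k * f⁻¹ * (f * E f a b l * f⁻¹) = f * (E f a b k * E f a b l) * f⁻¹ := by group
        _ = _ := by rw [e]; group
    intro l hl
    rcases Nat.lt_or_ge l 2 with h2 | h2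
    · have e := st (l + 12) _ (ih (l + 12) (by omega))
      rw [show l + 12 + 2 = l + 14 from rfl, E_fourteen F.f7] at e
      rw [FU_mm' k (by omega) l h2]
      exact e
    · obtain ⟨m, rfl⟩ : ∃ m, l = m + 2 := ⟨l - 2, by omega⟩
      rw [FU_mm k (by omega) m (by omega)]
      exact st m _ (ih m (by omega))

theorem E_sq (F : Frame U W K x0 x1 x2 f t a b) (h : Plane z U W K L) (k : ℕ) : E f a b k * E f a b k = 1 := by
  have key : ∀ (c : G) (i : ℕ), c * c = 1 → A f c i * A f c i = 1 := by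
    intro c i hc
    unfold A
    calc f ^ i * c * (f ^ i)⁻¹ * (f ^ i * c * (f ^ i)⁻¹) = f ^ i * (c * c) * (f ^ i)⁻¹ := by group
      _ = 1 := by rw [hc]; group
  unfold E
  split_ifs
  · exact key _ _ (h.sq_W _ F.ind.p_mem F.ind.p_ne _ F.fa.mem)
  · exact key _ _ (h.sq_W _ F.ind.p_mem F.ind.p_ne _ F.fb.mem)

theorem X_lt (j : ℕ) : X j < 8 ∧ X j ≠ 0 := by
  have h1 : ∀ r < 7, X r < 8 ∧ X r ≠ 0 := by decide +kernel
  have h2 := h1 (j % 7) (Nat.mod_lt _ (by norm_num))
  have e2 : X (j % 7) = X j := by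
    unfold X; rw [Nat.mod_mod]
  rwa [e2] at h2

theorem A_mem (F : Frame U W K x0 x1 x2 f t a b) (h : Plane z U W K L) (j : ℕ) :
    A f a j ∈ W (io x0 x1 x2 (X j)) := (F.FA1 h j).mem

theorem B_mem (F : Frame U W K x0 x1 x2 f t a b) (h : Plane z U W K L) (j : ℕ) :
    A f b j ∈ W (io x0 x1 x2 (X j)) := (F.FB2 h j).mem

theorem pt (F : Frame U W K x0 x1 x2 f t a b) (h : Plane z U W K L) (j : ℕ) :
    io x0 x1 x2 (X j) ≠ 1 := F.io_ne h (X_lt j).1 (X_lt j).2

theorem E_Y (F : Frame U W K x0 x1 x2 f t a b) (h : Plane z U W K L) (k : ℕ) : E f a b k ∈ YU U W := by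
  unfold E
  split_ifs
  · exact h.W_le_Y (F.io_mem _) (F.pt h _) (F.A_mem h _)
  · exact h.W_le_Y (F.io_mem _) (F.pt h _) (F.B_mem h _)

theorem good (F : Frame U W K x0 x1 x2 f t a b) (h : Plane z U W K L) :
    ∀ ks : List ℕ, (∀ k ∈ ks, k < 14) → Good (io x0 x1 x2) (ks.map (E f a b)) (Tof ks)
  | [], _ => trivial
  | k :: ks, hk => by
    refine ⟨⟨F.E_sq h k, fun n => h.Y_comm (F.E_Y h k) (F.io_mem n), ?_⟩,
      F.good h ks fun l hl => hk l (List.mem_cons_of_mem _ hl)⟩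
    have h1 : ∀ ls : List ℕ, (∀ l ∈ ls, l < 14) → Row (io x0 x1 x2) (E f a b k) (ls.map (E f a b)) (ls.map (mm k)) := by
      intro ls
      induction ls with
      | nil => exact fun _ => trivial
      | cons l ls ih =>
        intro hl
        exact ⟨F.tab h k (hk k (List.mem_cons_self ..)) l (hl l (List.mem_cons_self ..)),
          ih fun m hm => hl m (List.mem_cons_of_mem _ hm)⟩
    exact h1 ks fun l hl => hk l (List.mem_cons_of_mem _ hl)

/-- every `u ∈ U#` is one of the seven points -/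
theorem exists_X (F : Frame U W K x0 x1 x2 f t a b) (h : Plane z U W K L) {u : G} (hu : u ∈ U) (h1 : u ≠ 1) :
    ∃ j < 7, u = io x0 x1 x2 (X j) := by
  obtain ⟨n, hn, rfl⟩ := F.io_surj h hu
  have h0 : n ≠ 0 := fun e => h1 (by rw [e, io_zero])
  have : ∀ n < 8, n ≠ 0 → ∃ j < 7, n = X j := by decide +kernel
  obtain ⟨j, hj, e⟩ := this n hn h0
  exact ⟨j, hj, by rw [← e]⟩

end Frame

end Cfsg.Agent.Omega.NOThree.Ru
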