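import Mathlib

/-!
# Norms of elements modulo a subgroup

`Nm f n c = c (f c f⁻¹) ⋯ (f ^ (n - 1) c f ^ -(n - 1))`; `exists_fixed`: fixed points of `f` (order 7) and `t`
(order 3) in a coset.
-/

set_option autoImplicit false

namespace Cfsg.Agent.Omega.NOThree.Ru.Norm

variable {G : Type*} [Group G]

/-- the norm -/
def Nm (f : G) : ℕ → G → G
  | 0, _ => 1
  | n + 1, c => Nm f n c * (f ^ n * c * (f ^ n)⁻¹)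

theorem Nm_conj (f : G) (n : ℕ) (c : G) : f * Nm f n c * f⁻¹ = c⁻¹ * Nm f (n + 1) c := by
  induction n with
  | zero => simp [Nm]
  | succ n ih =>
    have e : f * Nm f (n + 1) c * f⁻¹ = f * Nm f n c * f⁻¹ * (f ^ (n + 1) * c * (f ^ (n + 1))⁻¹) := by
      simp only [Nm, pow_succ']
      group
    rw [e, ih]
    rw [show Nm f (n + 1 + 1) c = Nm f (n + 1) c * (f ^ (n + 1) * c * (f ^ (n + 1))⁻¹) from rfl, mul_assoc]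

theorem pow_conj_mem {S : Subgroup G} {f : G} (hS : ∀ s ∈ S, f * s * f⁻¹ ∈ S) (n : ℕ) {s : G} (hs : s ∈ S) :
    f ^ n * s * (f ^ n)⁻¹ ∈ S := by
  induction n with
  | zero => simpa using hs
  | succ n ih =>
    have e : f ^ (n + 1) * s * (f ^ (n + 1))⁻¹ = f * (f ^ n * s * (f ^ n)⁻¹) * f⁻¹ := by
      rw [pow_succ']; group
    rw [e]; exact hS _ ih

theorem Nm_mem {S : Subgroup G} {f : G} (hS : ∀ s ∈ S, f * s * f⁻¹ ∈ S) (n : ℕ) {c : G} (hc : c ∈ S) :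
    Nm f n c ∈ S := by
  induction n with
  | zero => exact one_mem _
  | succ n ih => exact mul_mem ih (pow_conj_mem hS n hc)

/-- `f ^ n c f ^ -n ≡ c` -/
theorem pow_conj_mod {T : Subgroup G} {f c : G} (hT : ∀ t ∈ T, f * t * f⁻¹ ∈ T)
    (hc : f * c * f⁻¹ * c⁻¹ ∈ T) (n : ℕ) : f ^ n * c * (f ^ n)⁻¹ * c⁻¹ ∈ T := by
  induction n with
  | zero => simp [one_mem]
  | succ n ih =>
    have e : f ^ (n + 1) * c * (f ^ (n + 1))⁻¹ * c⁻¹ =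
        f * (f ^ n * c * (f ^ n)⁻¹ * c⁻¹) * f⁻¹ * (f * c * f⁻¹ * c⁻¹) := by
      rw [pow_succ']; group
    rw [e]; exact mul_mem (hT _ ih) hc

/-- `Nm f n c ≡ c ^ n` -/
theorem Nm_mod {T : Subgroup G} {f c : G} (hT : ∀ t ∈ T, f * t * f⁻¹ ∈ T) (hcT : ∀ t ∈ T, c * t * c⁻¹ ∈ T)
    (hc : f * c * f⁻¹ * c⁻¹ ∈ T) (n : ℕ) : Nm f n c * (c ^ n)⁻¹ ∈ T := by
  induction n with
  | zero => simp [Nm, one_mem]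
  | succ n ih =>
    have e : Nm f (n + 1) c * (c ^ (n + 1))⁻¹ =
        Nm f n c * (c ^ n)⁻¹ * (c ^ n * (f ^ n * c * (f ^ n)⁻¹ * c⁻¹) * (c ^ n)⁻¹) := by
      simp only [Nm, pow_succ']
      have e2 : (c * c ^ n)⁻¹ = c⁻¹ * (c ^ n)⁻¹ := by
        rw [← pow_succ', pow_succ, mul_inv_rev]
      rw [e2]; group
    rw [e]; exact mul_mem ih (pow_conj_mem hcT n (pow_conj_mod hT hc n))

/-- fixed points of `f` and `t` modulo `M` in a coset of `T` -/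
theorem exists_fixed {S M T : Subgroup G} {f t : G}
    (Sf : ∀ s ∈ S, f * s * f⁻¹ ∈ S) (St : ∀ s ∈ S, t * s * t⁻¹ ∈ S)
    (MS : ∀ s ∈ S, ∀ m ∈ M, s * m * s⁻¹ ∈ M)
    (Tf : ∀ s ∈ T, f * s * f⁻¹ ∈ T) (Tt : ∀ s ∈ T, t * s * t⁻¹ ∈ T) (TS : ∀ s ∈ S, ∀ m ∈ T, s * m * s⁻¹ ∈ T)
    (ab : ∀ s ∈ S, ∀ s' ∈ S, s * s' * s⁻¹ * s'⁻¹ ∈ M) (sq : ∀ s ∈ S, s * s ∈ M)
    (ft : ∀ s ∈ S, f * s * f⁻¹ * s⁻¹ ∈ T) (tt : ∀ s ∈ S, t * s * t⁻¹ * s⁻¹ ∈ T)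
    (f7 : f ^ 7 = 1) (t3 : ∀ s ∈ S, t ^ 3 * s * (t ^ 3)⁻¹ * s⁻¹ ∈ M)
    (tf : ∀ s ∈ S, f * s * f⁻¹ * s⁻¹ ∈ M → f * (t * s * t⁻¹) * f⁻¹ * (t * s * t⁻¹)⁻¹ ∈ M)
    {c : G} (hc : c ∈ S) : ∃ c₂ ∈ S, (∃ s ∈ T, ∃ m ∈ M, c₂ = s * c * m) ∧ f * c₂ * f⁻¹ * c₂⁻¹ ∈ M ∧
      t * c₂ * t⁻¹ * c₂⁻¹ ∈ M := by
  -- the norm of `f`
  set c₁ := Nm f 7 c with hc₁
  have c₁S : c₁ ∈ S := Nm_mem Sf 7 hc
  have h1 : f * c₁ * f⁻¹ * c₁⁻¹ ∈ M := by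
    have e : Nm f (7 + 1) c = c₁ * c := by
      rw [show Nm f (7 + 1) c = Nm f 7 c * (f ^ 7 * c * (f ^ 7)⁻¹) from rfl, f7]
      group
      rw [hc₁]
    rw [hc₁, Nm_conj, e, ← hc₁]
    have e2 : c⁻¹ * (c₁ * c) * c₁⁻¹ = c⁻¹ * c₁ * c⁻¹⁻¹ * c₁⁻¹ := by group
    rw [e2]
    exact ab _ (inv_mem hc) _ c₁S
  have h2 : c₁ * (c ^ 7)⁻¹ ∈ T := Nm_mod Tf (TS c hc) (ft c hc) 7
  have h3 : c₁ = (c₁ * (c ^ 7)⁻¹) * c * ((c * c) * (c * c) * (c * c)) := by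
    have : c ^ 7 = c * ((c * c) * (c * c) * (c * c)) := by simp only [pow_succ, pow_zero, one_mul, mul_assoc]
    calc c₁ = c₁ * (c ^ 7)⁻¹ * c ^ 7 := by group
      _ = _ := by rw [this]; group
  have h3' : (c * c) * (c * c) * (c * c) ∈ M := mul_mem (mul_mem (sq c hc) (sq c hc)) (sq c hc)
  -- the norm of `t`
  set c₂ := Nm t 3 c₁ with hc₂
  have c₂S : c₂ ∈ S := Nm_mem St 3 c₁S
  have k1 : t * c₂ * t⁻¹ * c₂⁻¹ ∈ M := by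
    have e : Nm t (3 + 1) c₁ = c₂ * (t ^ 3 * c₁ * (t ^ 3)⁻¹) := rfl
    rw [hc₂, Nm_conj, e, ← hc₂]
    have e2 : c₁⁻¹ * (c₂ * (t ^ 3 * c₁ * (t ^ 3)⁻¹)) * c₂⁻¹ =
        (c₁⁻¹ * c₂ * c₁⁻¹⁻¹ * c₂⁻¹) * (c₂ * (c₁⁻¹ * (t ^ 3 * c₁ * (t ^ 3)⁻¹ * c₁⁻¹) * c₁⁻¹⁻¹) * c₂⁻¹) := by
      group
    rw [e2]
    exact mul_mem (ab _ (inv_mem c₁S) _ c₂S) (MS _ c₂S _ (MS _ (inv_mem c₁S) _ (t3 _ c₁S)))
  have k2 : c₂ * (c₁ ^ 3)⁻¹ ∈ T := Nm_mod Tt (TS c₁ c₁S) (tt c₁ c₁S) 3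
  have k3 : c₂ = (c₂ * (c₁ ^ 3)⁻¹) * c₁ * (c₁ * c₁) := by
    have : c₁ ^ 3 = c₁ * (c₁ * c₁) := by simp only [pow_succ, pow_zero, one_mul, mul_assoc]
    calc c₂ = c₂ * (c₁ ^ 3)⁻¹ * c₁ ^ 3 := by group
      _ = _ := by rw [this]; group
  -- `f` fixes `c₂`
  have fm : ∀ s s' : G, s ∈ S → f * s * f⁻¹ * s⁻¹ ∈ M → f * s' * f⁻¹ * s'⁻¹ ∈ M →
      f * (s * s') * f⁻¹ * (s * s')⁻¹ ∈ M := by
    intro s s' hs e1 e2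
    have e : f * (s * s') * f⁻¹ * (s * s')⁻¹ = (f * s * f⁻¹ * s⁻¹) * (s * (f * s' * f⁻¹ * s'⁻¹) * s⁻¹) := by group
    rw [e]; exact mul_mem e1 (MS s hs _ e2)
  have tn : ∀ n, f * (t ^ n * c₁ * (t ^ n)⁻¹) * f⁻¹ * (t ^ n * c₁ * (t ^ n)⁻¹)⁻¹ ∈ M := by
    intro n
    induction n with
    | zero => simpa using h1
    | succ n ih =>
      have := tf _ (pow_conj_mem St n c₁S) ih
      have e : t * (t ^ n * c₁ * (t ^ n)⁻¹) * t⁻¹ = t ^ (n + 1) * c₁ * (t ^ (n + 1))⁻¹ := by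
        rw [pow_succ']; group
      rwa [e] at this
  have fN : ∀ n, f * Nm t n c₁ * f⁻¹ * (Nm t n c₁)⁻¹ ∈ M := by
    intro n
    induction n with
    | zero => simp [Nm, one_mem]
    | succ n ih => exact fm _ _ (Nm_mem St n c₁S) ih (tn n)
  refine ⟨c₂, c₂S, ⟨(c₂ * (c₁ ^ 3)⁻¹) * (c₁ * (c ^ 7)⁻¹), mul_mem k2 h2,
    ((c * c) * (c * c) * (c * c)) * (c₁ * c₁), mul_mem h3' (sq _ c₁S), ?_⟩, fN 3, k1⟩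
  calc c₂ = (c₂ * (c₁ ^ 3)⁻¹) * c₁ * (c₁ * c₁) := k3
    _ = (c₂ * (c₁ ^ 3)⁻¹) * ((c₁ * (c ^ 7)⁻¹) * c * ((c * c) * (c * c) * (c * c))) * (c₁ * c₁) := by
        rw [← h3]
    _ = _ := by group

end Cfsg.Agent.Omega.NOThree.Ru.Norm
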