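import Cfsg.Agent.Omega.NOThree.Ru.Frame
import Cfsg.Agent.Omega.NOThree.Ru.Code

/-!
# The plane configuration: the commutator table

`io x0 x1 x2 n` : the element of `U` with the bits of `n`; `A f a i = f^i a f^-i`; `E k` (`k < 14`) is
`A a 0, A b 0, A a 1, A b 1, ..`; `M14 k l` is the number of the commutator `[E k, E l]`.
-/

set_option autoImplicit false

namespace Cfsg.Agent.Omega.NOThree.Ru

open Subgroup Cfsg Cfsg.Agent.MinSimple.Geo Code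

variable {G : Type*} [Group G]

/-- the element of `U` with the bits of `n` -/
def io (x0 x1 x2 : G) (n : ℕ) : G :=
  (if n % 2 = 1 then x0 else 1) * (if n / 2 % 2 = 1 then x1 else 1) * (if n / 4 % 2 = 1 then x2 else 1)

/-- the numbers of the points -/
def X (j : ℕ) : ℕ := [1, 2, 4, 3, 6, 7, 5].getD (j % 7) 0

/-- `f ^ i a f ^ -i` -/
def A (f a : G) (i : ℕ) : G := f ^ i * a * (f ^ i)⁻¹

theorem A_zero (f a : G) : A f a 0 = a := by simp [A]

theorem A_succ (f a : G) (i : ℕ) : A f a (i + 1) = f * A f a i * f⁻¹ := by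
  simp only [A, pow_succ']; group

theorem A_add (f a : G) (i j : ℕ) : A f a (i + j) = f ^ i * A f a j * (f ^ i)⁻¹ := by
  simp only [A, pow_add]; group

theorem A_seven {f a : G} (hf : f ^ 7 = 1) (i : ℕ) : A f a (i + 7) = A f a i := by
  simp only [A, pow_add, hf, mul_one]

/-- the flag elements -/
def E (f a b : G) (k : ℕ) : G := if k % 2 = 0 then A f a (k / 2) else A f b (k / 2)

theorem io_zero (x0 x1 x2 : G) : io x0 x1 x2 0 = 1 := by simp [io]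
theorem io_one (x0 x1 x2 : G) : io x0 x1 x2 1 = x0 := by simp [io]
theorem io_two (x0 x1 x2 : G) : io x0 x1 x2 2 = x1 := by simp [io]
theorem io_three (x0 x1 x2 : G) : io x0 x1 x2 3 = x0 * x1 := by simp [io]
theorem io_four (x0 x1 x2 : G) : io x0 x1 x2 4 = x2 := by simp [io]
theorem io_five (x0 x1 x2 : G) : io x0 x1 x2 5 = x0 * x2 := by simp [io]
theorem io_six (x0 x1 x2 : G) : io x0 x1 x2 6 = x1 * x2 := by simp [io]
theorem io_seven (x0 x1 x2 : G) : io x0 x1 x2 7 = x0 * x1 * x2 := by simp [io]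

/-- independent numbers -/
def IndN (m n k : ℕ) : Prop := m < 8 ∧ n < 8 ∧ k < 8 ∧ m ≠ 0 ∧ n ≠ 0 ∧ k ≠ 0 ∧ m ≠ n ∧ m ≠ k ∧ n ≠ k ∧ m ^^^ n ≠ k

instance (m n k : ℕ) : Decidable (IndN m n k) := by unfold IndN; infer_instance

/-- `f` on the numbers of the elements of `U` -/
def FU (n : ℕ) : ℕ := dot [2, 4, 3] n

/-- `h` on the numbers of the elements of `U` -/
def HU (n : ℕ) : ℕ := dot [1, 4, 6] n

/-- the commutators `[E k, E l]` -/
def M14 : List (List ℕ) := [[0, 0, 2, 0, 6, 7, 3, 3, 1, 4, 4, 1, 1, 6], [0, 0, 7, 1, 4, 4, 7, 6, 1, 2, 3, 1, 0, 5], [2, 7, 0, 0, 4, 0, 7, 5, 6, 6, 2, 3, 3, 2], [0, 1, 0, 0, 5, 2, 3, 3, 5, 7, 2, 4, 6, 2], [6, 4, 4, 5, 0, 0, 3, 0, 5, 1, 7, 7, 4, 6], [7, 4, 0, 2, 0, 0, 1, 4, 6, 6, 1, 5, 4, 3], [3, 7, 7, 3, 3, 1, 0, 0, 6, 0, 1, 2, 5, 5], [3, 6, 5, 3, 0, 4, 0, 0, 2, 3, 7, 7, 2, 1], [1, 1, 6, 5, 5, 6, 6, 2, 0, 0, 7, 0, 2, 4], [4, 2, 6, 7, 1, 6, 0, 3, 0, 0, 4,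 6, 5, 5], [4, 3, 2, 2, 7, 1, 1, 7, 7, 4, 0, 0, 5, 0], [1, 1, 3, 4, 7, 5, 2, 7, 0, 6, 0, 0, 3, 7], [1, 0, 3, 6, 4, 4, 5, 2, 2, 5, 5, 3, 0, 0], [6, 5, 2, 2, 6, 3, 5, 1, 4, 5, 0, 7, 0, 0]]

def mm (k l : ℕ) : ℕ := (M14.getD k []).getD l 0

theorem FU_mm : ∀ k < 12, ∀ l < 12, mm (k + 2) (l + 2) = FU (mm k l) := by decide +kernel

theorem FU_mm' : ∀ k < 12, ∀ l < 2, mm (k + 2) l = FU (mm k (l + 12)) := by decide +kernel

theorem mm_symm : ∀ k < 14, ∀ l < 14, mm k l = mm l k := by decide +kernel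

theorem X_succ (j : ℕ) : X (j + 1) = FU (X j) := by
  have h1 : ∀ r < 7, X (r + 1) = FU (X r) := by decide +kernel
  have h2 := h1 (j % 7) (Nat.mod_lt _ (by norm_num))
  have e1 : X (j % 7 + 1) = X (j + 1) := by
    unfold X; rw [Nat.mod_add_mod]
  have e2 : X (j % 7) = X j := by
    unfold X; rw [Nat.mod_mod]
  rw [e1, e2] at h2
  exact h2

namespace Frame

variable {z : G} {U : Subgroup G} {W K L : G → Subgroup G} {x0 x1 x2 f t a b : G}

theorem io_mem (F : Frame U W K x0 x1 x2 f t a b) (n : ℕ) : io x0 x1 x2 n ∈ U := by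
  unfold io
  refine mul_mem (mul_mem ?_ ?_) ?_
  · split_ifs
    exacts [F.ind.p_mem, one_mem _]
  · split_ifs
    exacts [F.ind.q_mem, one_mem _]
  · split_ifs
    exacts [F.ind.w_mem, one_mem _]

theorem io_xor (F : Frame U W K x0 x1 x2 f t a b) (h : Plane z U W K L) (m n : ℕ) :
    io x0 x1 x2 (m ^^^ n) = io x0 x1 x2 m * io x0 x1 x2 n := by
  have m0 := F.ind.p_mem
  have m1 := F.ind.q_mem
  have m2 := F.ind.w_mem
  have key : ∀ (x : G) (i j : ℕ), x * x = 1 → (if (i ^^^ j) % 2 = 1 then x else 1) =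
      (if i % 2 = 1 then x else 1) * (if j % 2 = 1 then x else 1) := by
    intro x i j hx
    rw [xor_mod_two]
    rcases Nat.mod_two_eq_zero_or_one i with hi | hi <;> rcases Nat.mod_two_eq_zero_or_one j with hj | hj <;>
      simp [hi, hj, hx]
  have d4 : (m ^^^ n) / 4 = (m / 4) ^^^ (n / 4) := by
    rw [show (4 : ℕ) = 2 * 2 from rfl, ← Nat.div_div_eq_div_mul, ← Nat.div_div_eq_div_mul,
      ← Nat.div_div_eq_div_mul, xor_div_two, xor_div_two]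
  have u : ∀ x ∈ U, ∀ i : ℕ, (if i % 2 = 1 then x else 1) ∈ U := fun x hx i => by
    split_ifs
    exacts [hx, one_mem _]
  have c : ∀ p ∈ U, ∀ p' ∈ U, ∀ q ∈ U, ∀ q' ∈ U, ∀ r ∈ U, ∀ r' ∈ U,
      p * p' * (q * q') * (r * r') = p * q * r * (p' * q' * r') := by
    intro p _ p' hp' q hq q' hq' r hr r' _
    calc p * p' * (q * q') * (r * r') = p * (p' * q) * (q' * r) * r' := by group
      _ = p * (q * p') * (r * q') * r' := by rw [h.comm_U hp' hq, h.comm_U hq' hr]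
      _ = p * q * (p' * r) * q' * r' := by group
      _ = p * q * (r * p') * q' * r' := by rw [h.comm_U hp' hr]
      _ = _ := by group
  unfold io
  rw [d4, xor_div_two, key x0 m n (h.sq_U _ m0), key x1 (m / 2) (n / 2) (h.sq_U _ m1),
    key x2 (m / 4) (n / 4) (h.sq_U _ m2)]
  exact c _ (u _ m0 _) _ (u _ m0 _) _ (u _ m1 _) _ (u _ m1 _) _ (u _ m2 _) _ (u _ m2 _)

/-- action on the numbers -/
theorem conj_io (F : Frame U W K x0 x1 x2 f t a b) (h : Plane z U W K L) {g : G} {c0 c1 c2 : ℕ}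
    (h0 : g * x0 * g⁻¹ = io x0 x1 x2 c0) (h1 : g * x1 * g⁻¹ = io x0 x1 x2 c1)
    (h2 : g * x2 * g⁻¹ = io x0 x1 x2 c2) (n : ℕ) :
    g * io x0 x1 x2 n * g⁻¹ = io x0 x1 x2 (dot [c0, c1, c2] n) := by
  have key : ∀ (x : G) (c i : ℕ), g * x * g⁻¹ = io x0 x1 x2 c →
      g * (if i % 2 = 1 then x else 1) * g⁻¹ = io x0 x1 x2 (if i % 2 = 1 then c else 0) := by
    intro x c i hx
    split_ifs
    · exact hx
    · rw [mul_one, mul_inv_cancel, io_zero]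
  have d4 : n / 4 = n / 2 / 2 := by rw [Nat.div_div_eq_div_mul]
  simp only [dot]
  rw [F.io_xor h, F.io_xor h, F.io_xor h, io_zero, mul_one, ← key x0 c0 n h0, ← key x1 c1 (n / 2) h1,
    ← key x2 c2 (n / 2 / 2) h2]
  unfold io
  rw [d4]
  group

theorem conj_f (F : Frame U W K x0 x1 x2 f t a b) (h : Plane z U W K L) (n : ℕ) :
    f * io x0 x1 x2 n * f⁻¹ = io x0 x1 x2 (FU n) :=
  F.conj_io h (by rw [F.f0, io_two]) (by rw [F.f1, io_four]) (by rw [F.f2, io_three]) n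

theorem conj_h (F : Frame U W K x0 x1 x2 f t a b) (h : Plane z U W K L) (n : ℕ) :
    t * io x0 x1 x2 n * t⁻¹ = io x0 x1 x2 (HU n) :=
  F.conj_io h (by rw [F.h0, io_one]) (by rw [F.h1, io_four]) (by rw [F.h2, io_six]) n

theorem io_surj (F : Frame U W K x0 x1 x2 f t a b) (h : Plane z U W K L) {u : G} (hu : u ∈ U) :
    ∃ n < 8, u = io x0 x1 x2 n := by
  rcases h.mem_cases F.ind hu with rfl | rfl | rfl | rfl | rfl | rfl | rfl | rfl
  exacts [⟨0, by norm_num, (io_zero _ _ _).symm⟩, ⟨1, by norm_num, (io_one _ _ _).symm⟩,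
    ⟨2, by norm_num, (io_two _ _ _).symm⟩, ⟨3, by norm_num, (io_three _ _ _).symm⟩,
    ⟨4, by norm_num, (io_four _ _ _).symm⟩, ⟨5, by norm_num, (io_five _ _ _).symm⟩,
    ⟨6, by norm_num, (io_six _ _ _).symm⟩, ⟨7, by norm_num, (io_seven _ _ _).symm⟩]

theorem io_ne (F : Frame U W K x0 x1 x2 f t a b) (h : Plane z U W K L) {n : ℕ} (hn : n < 8) (h0 : n ≠ 0) :
    io x0 x1 x2 n ≠ 1 := by
  have i := F.ind
  have hU := h.sq_U
  interval_cases n
  · exact absurd rfl h0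
  · rw [io_one]; exact i.p_ne
  · rw [io_two]; exact i.q_ne
  · rw [io_three]
    exact fun e => i.pq (by have := Ind.sh hU i.p_mem e; rwa [mul_one] at this)
  · rw [io_four]; exact i.w_ne
  · rw [io_five]
    exact fun e => i.pw (by have := Ind.sh hU i.p_mem e; rwa [mul_one] at this)
  · rw [io_six]
    exact fun e => i.qw (by have := Ind.sh hU i.q_mem e; rwa [mul_one] at this)
  · rw [io_seven]
    exact fun e => i.pqw (by have := Ind.sh hU (mul_mem i.p_mem i.q_mem) e; rwa [mul_one] at this)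

theorem xor_lt {m n : ℕ} (hm : m < 8) (hn : n < 8) : m ^^^ n < 8 := Nat.xor_lt_two_pow (n := 3) hm hn

theorem io_inj (F : Frame U W K x0 x1 x2 f t a b) (h : Plane z U W K L) {m n : ℕ} (hm : m < 8) (hn : n < 8)
    (e : io x0 x1 x2 m = io x0 x1 x2 n) : m = n := by
  by_contra hne
  have h1 : m ^^^ n ≠ 0 := fun e => hne (Nat.xor_eq_zero_iff.1 e)
  refine F.io_ne h (xor_lt hm hn) h1 ?_
  rw [F.io_xor h, e, h.sq_U _ (F.io_mem n)]

theorem io_eq_one (F : Frame U W K x0 x1 x2 f t a b) (h : Plane z U W K L) {m : ℕ} (hm : m < 8) :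
    io x0 x1 x2 m = 1 ↔ m = 0 := by
  refine ⟨fun e => ?_, fun e => by rw [e, io_zero]⟩
  by_contra h0
  exact F.io_ne h hm h0 e

theorem ind_io (F : Frame U W K x0 x1 x2 f t a b) (h : Plane z U W K L) {m n k : ℕ} (c : IndN m n k) :
    Ind U (io x0 x1 x2 m) (io x0 x1 x2 n) (io x0 x1 x2 k) := by
  obtain ⟨hm, hn, hk, m0, n0, k0, mn, mk, nk, mnk⟩ := c
  refine ⟨F.io_mem _, F.io_mem _, F.io_mem _, F.io_ne h hm m0, F.io_ne h hn n0,
    fun e => mn (F.io_inj h hm hn e), F.io_ne h hk k0, fun e => mk (F.io_inj h hm hk e),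
    fun e => nk (F.io_inj h hn hk e), fun e => mnk (F.io_inj h (xor_lt hm hn) hk ?_)⟩
  rw [F.io_xor h, e]

theorem fl_conj (F : Frame U W K x0 x1 x2 f t a b) (h : Plane z U W K L) {p q g : G} (hg : Fl U W K p q g) :
    Fl U W K (f * p * f⁻¹) (f * q * f⁻¹) (f * g * f⁻¹) := by
  refine ⟨?_, ?_, ?_⟩
  · rw [← h.cj_W]; exact conj_mem_cj hg.mem
  · intro h1
    apply hg.notMem
    have := F.nf.nU' _ h1
    have e : f⁻¹ * (f * g * f⁻¹) * f = g := by group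
    rwa [e] at this
  · rw [← h.cj_K]; exact conj_mem_cj hg.memK

theorem FA1 (F : Frame U W K x0 x1 x2 f t a b) (h : Plane z U W K L) (j : ℕ) :
    Fl U W K (io x0 x1 x2 (X j)) (io x0 x1 x2 (X (j + 1))) (A f a j) := by
  induction j with
  | zero =>
    rw [A_zero]
    change Fl U W K (io x0 x1 x2 1) (io x0 x1 x2 2) a
    rw [io_one, io_two]; exact F.fa
  | succ j ih =>
    have := F.fl_conj h ih
    rw [F.conj_f h, F.conj_f h, ← X_succ, ← X_succ, ← A_succ] at this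
    exact this

theorem FB2 (F : Frame U W K x0 x1 x2 f t a b) (h : Plane z U W K L) (j : ℕ) :
    Fl U W K (io x0 x1 x2 (X j)) (io x0 x1 x2 (X (j + 2))) (A f b j) := by
  induction j with
  | zero =>
    rw [A_zero]
    change Fl U W K (io x0 x1 x2 1) (io x0 x1 x2 4) b
    rw [io_one, io_four]; exact F.fb
  | succ j ih =>
    have := F.fl_conj h ih
    rw [F.conj_f h, F.conj_f h, ← X_succ, ← X_succ, ← A_succ] at this
    exact this

theorem FA3 (F : Frame U W K x0 x1 x2 f t a b) (h : Plane z U W K L) (j : ℕ) :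
    Fl U W K (io x0 x1 x2 (X j)) (io x0 x1 x2 (X (j + 3))) (A f a j) := by
  induction j with
  | zero =>
    rw [A_zero]
    change Fl U W K (io x0 x1 x2 1) (io x0 x1 x2 3) a
    rw [io_one, io_three]
    exact h.fl_mul _ F.ind.p_mem F.ind.p_ne _ F.ind.q_mem F.ind.q_ne F.ind.pq _ F.fa
  | succ j ih =>
    have := F.fl_conj h ih
    rw [F.conj_f h, F.conj_f h, ← X_succ, ← X_succ, ← A_succ] at this
    exact this

theorem FB6 (F : Frame U W K x0 x1 x2 f t a b) (h : Plane z U W K L) (j : ℕ) :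
    Fl U W K (io x0 x1 x2 (X j)) (io x0 x1 x2 (X (j + 6))) (A f b j) := by
  induction j with
  | zero =>
    rw [A_zero]
    change Fl U W K (io x0 x1 x2 1) (io x0 x1 x2 5) b
    rw [io_one, io_five]
    exact h.fl_mul _ F.ind.p_mem F.ind.p_ne _ F.ind.w_mem F.ind.w_ne F.ind.pw _ F.fb
  | succ j ih =>
    have := F.fl_conj h ih
    rw [F.conj_f h, F.conj_f h, ← X_succ, ← X_succ, ← A_succ] at this
    exact this

section Com

variable (F : Frame U W K x0 x1 x2 f t a b) (h : Plane z U W K L) {g g' : G}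
include F h

theorem gen (p q w c : ℕ) (i : IndN p q w ∧ p ^^^ q ^^^ w = c)
    (hg : Fl U W K (io x0 x1 x2 p) (io x0 x1 x2 w) g)
    (hg' : Fl U W K (io x0 x1 x2 q) (io x0 x1 x2 w) g') : g * g' = g' * g * io x0 x1 x2 c := by
  rw [h.com_gen (F.ind_io h i.1) hg hg', ← F.io_xor h, ← F.io_xor h, i.2]

theorem left (p q w : ℕ) (i : IndN p q w)
    (hg : Fl U W K (io x0 x1 x2 p) (io x0 x1 x2 q) g)
    (hg' : Fl U W K (io x0 x1 x2 q) (io x0 x1 x2 w) g') : g * g' = g' * g * io x0 x1 x2 q :=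
  h.com_left (F.ind_io h i) hg hg'

theorem right (p q w : ℕ) (i : IndN p q w)
    (hg : Fl U W K (io x0 x1 x2 p) (io x0 x1 x2 w) g)
    (hg' : Fl U W K (io x0 x1 x2 q) (io x0 x1 x2 p) g') : g * g' = g' * g * io x0 x1 x2 p :=
  h.com_right (F.ind_io h i) hg hg'

theorem same (p q : ℕ) (i : IndN p q (p ^^^ q ^^^ 1) ∨ IndN p q (p ^^^ q ^^^ 2) ∨ IndN p q (p ^^^ q ^^^ 4))
    (hg : Fl U W K (io x0 x1 x2 p) (io x0 x1 x2 q) g)
    (hg' : Fl U W K (io x0 x1 x2 q) (io x0 x1 x2 p) g') : g * g' = g' * g * io x0 x1 x2 0 := by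
  rw [io_zero, mul_one]
  rcases i with i | i | i
  all_goals
    have j := F.ind_io h i
    exact h.fl_comm _ j.p_mem j.p_ne _ j.q_mem j.q_ne j.pq _ _ hg hg'

theorem cA1A : A f a 0 * A f a 1 = A f a 1 * A f a 0 * io x0 x1 x2 2 :=
  F.left h 1 2 4 (by decide) (F.FA1 h 0) (F.FA1 h 1)

theorem cA1B : A f a 0 * A f b 1 = A f b 1 * A f a 0 * io x0 x1 x2 0 :=
  F.same h 1 2 (by decide) (F.FA1 h 0) (F.FB6 h 1)

theorem cA2A : A f a 0 * A f a 2 = A f a 2 * A f a 0 * io x0 x1 x2 6 :=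
  F.gen h 1 4 3 6 (by decide) (F.FA3 h 0) (F.FA1 h 2)

theorem cA2B : A f a 0 * A f b 2 = A f b 2 * A f a 0 * io x0 x1 x2 7 :=
  F.gen h 1 4 2 7 (by decide) (F.FA1 h 0) (F.FB6 h 2)

theorem cA3A : A f a 0 * A f a 3 = A f a 3 * A f a 0 * io x0 x1 x2 3 :=
  F.left h 1 3 6 (by decide) (F.FA3 h 0) (F.FA1 h 3)

theorem cA3B : A f a 0 * A f b 3 = A f b 3 * A f a 0 * io x0 x1 x2 3 :=
  F.left h 1 3 4 (by decide) (F.FA3 h 0) (F.FB6 h 3)

theorem cA4A : A f a 0 * A f a 4 = A f a 4 * A f a 0 * io x0 x1 x2 1 :=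
  F.right h 1 6 2 (by decide) (F.FA1 h 0) (F.FA3 h 4)

theorem cA4B : A f a 0 * A f b 4 = A f b 4 * A f a 0 * io x0 x1 x2 4 :=
  F.gen h 1 6 3 4 (by decide) (F.FA3 h 0) (F.FB6 h 4)

theorem cA5A : A f a 0 * A f a 5 = A f a 5 * A f a 0 * io x0 x1 x2 4 :=
  F.gen h 1 7 2 4 (by decide) (F.FA1 h 0) (F.FA3 h 5)

theorem cA5B : A f a 0 * A f b 5 = A f b 5 * A f a 0 * io x0 x1 x2 1 :=
  F.right h 1 7 2 (by decide) (F.FA1 h 0) (F.FB2 h 5)

theorem cA6A : A f a 0 * A f a 6 = A f a 6 * A f a 0 * io x0 x1 x2 1 :=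
  F.right h 1 5 2 (by decide) (F.FA1 h 0) (F.FA1 h 6)

theorem cA6B : A f a 0 * A f b 6 = A f b 6 * A f a 0 * io x0 x1 x2 6 :=
  F.gen h 1 5 2 6 (by decide) (F.FA1 h 0) (F.FB2 h 6)

theorem cB1A : A f b 0 * A f a 1 = A f a 1 * A f b 0 * io x0 x1 x2 7 :=
  F.gen h 1 2 4 7 (by decide) (F.FB2 h 0) (F.FA1 h 1)

theorem cB1B : A f b 0 * A f b 1 = A f b 1 * A f b 0 * io x0 x1 x2 1 :=
  F.right h 1 2 5 (by decide) (F.FB6 h 0) (F.FB6 h 1)

theorem cB2A : A f b 0 * A f a 2 = A f a 2 * A f b 0 * io x0 x1 x2 4 :=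
  F.left h 1 4 3 (by decide) (F.FB2 h 0) (F.FA1 h 2)

theorem cB2B : A f b 0 * A f b 2 = A f b 2 * A f b 0 * io x0 x1 x2 4 :=
  F.left h 1 4 2 (by decide) (F.FB2 h 0) (F.FB6 h 2)

theorem cB3A : A f b 0 * A f a 3 = A f a 3 * A f b 0 * io x0 x1 x2 7 :=
  F.gen h 1 3 5 7 (by decide) (F.FB6 h 0) (F.FA3 h 3)

theorem cB3B : A f b 0 * A f b 3 = A f b 3 * A f b 0 * io x0 x1 x2 6 :=
  F.gen h 1 3 4 6 (by decide) (F.FB2 h 0) (F.FB6 h 3)

theorem cB4A : A f b 0 * A f a 4 = A f a 4 * A f b 0 * io x0 x1 x2 1 :=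
  F.right h 1 6 5 (by decide) (F.FB6 h 0) (F.FA3 h 4)

theorem cB4B : A f b 0 * A f b 4 = A f b 4 * A f b 0 * io x0 x1 x2 2 :=
  F.gen h 1 6 5 2 (by decide) (F.FB6 h 0) (F.FB2 h 4)

theorem cB5A : A f b 0 * A f a 5 = A f a 5 * A f b 0 * io x0 x1 x2 3 :=
  F.gen h 1 7 5 3 (by decide) (F.FB6 h 0) (F.FA1 h 5)

theorem cB5B : A f b 0 * A f b 5 = A f b 5 * A f b 0 * io x0 x1 x2 1 :=
  F.right h 1 7 5 (by decide) (F.FB6 h 0) (F.FB2 h 5)

theorem cB6A : A f b 0 * A f a 6 = A f a 6 * A f b 0 * io x0 x1 x2 0 :=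
  F.same h 1 5 (by decide) (F.FB6 h 0) (F.FA1 h 6)

theorem cB6B : A f b 0 * A f b 6 = A f b 6 * A f b 0 * io x0 x1 x2 5 :=
  F.left h 1 5 7 (by decide) (F.FB6 h 0) (F.FB6 h 6)

end Com

end Frame

end Cfsg.Agent.Omega.NOThree.Ru
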