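import Cfsg.Agent.Omega.NOThree.Ru.Mat
import Cfsg.Agent.Omega.NOThree.Ru.Norm
import Cfsg.Agent.Omega.NOThree.Ru.Cd

/-!
# The plane configuration: codes for the elements of `Y`

* `Frame.W_gen` : `W x = {1, a, b, ab} U`;
* `Frame.code14` : codes with respect to the 14 generators;
* `Frame.Y_inf_D` : `Y ∩ C(Y) = U`;
* `Frame.code8` : codes with respect to the basis `E k`, `k = 0, .., 6, 8`.
-/

set_option autoImplicit false

namespace Cfsg.Agent.Omega.NOThree.Ru

open Subgroup Cfsg Cfsg.Agent.MinSimple.Geo Code Cfsg.Agent.Omega.NOThree.Ru.Norm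

variable {G : Type*} [Group G]

/-- the 14 generators -/
def g14 (f a b : G) : List G := (List.range 14).map (E f a b)

/-- their table -/
def T14 : List (List ℕ) := Tof (List.range 14)

/-- the numbers of the basis -/
def ks8 : List ℕ := [0, 1, 2, 3, 4, 5, 6, 8]

/-- the basis -/
def g8 (f a b : G) : List G := ks8.map (E f a b)

/-- their table -/
def T8 : List (List ℕ) :=
  [[0, 2, 0, 6, 7, 3, 1], [7, 1, 4, 4, 7, 1], [0, 4, 0, 7, 6], [5, 2, 3, 5], [0, 3, 5], [1, 6], [6], []]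

theorem T8_eq : Tof ks8 = T8 := by decide

/-- the generators in the basis -/
def R8 : List ℕ := [1, 2, 4, 8, 16, 32, 64, 73, 128, 164, 218, 131, 50, 214]

theorem elt_pow (gs : List G) (k : ℕ) : elt gs (2 ^ k) = gs.getD k 1 := by
  induction gs generalizing k with
  | nil => simp [elt]
  | cons g gs ih =>
    cases k with
    | zero => rw [pow_zero, elt_cons_odd g gs (by norm_num)]; simp [elt_zero]
    | succ k =>
      rw [elt_cons_even g gs (by rw [pow_succ]; omega), pow_succ, Nat.mul_div_cancel _ (by norm_num), ih]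
      simp

/-- the rotations -/
def Rp (i : ℕ) : List ℕ := (List.range 14).map fun k => 2 ^ ((k + 2 * i) % 14)

/-- the partial norms -/
def NL : ℕ → List ℕ
  | 0 => List.replicate 14 0
  | j + 1 => List.zipWith (· ^^^ ·) (NL j) (Rp j)

theorem NL_length (j : ℕ) : (NL j).length = 14 := by
  induction j with
  | zero => simp [NL]
  | succ j ih => simp [NL, ih, Rp]

theorem NL_seven : NL 7 = [5461, 10922, 5461, 10922, 5461, 10922, 5461, 10922, 5461, 10922, 5461, 10922, 5461,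
    10922] := by decide

theorem dot_rep (k n : ℕ) : dot (List.replicate k 0) n = 0 := by
  induction k generalizing n with
  | zero => simp [dot]
  | succ k ih => simp [List.replicate_succ, dot, ih]

namespace Frame

variable {z : G} {U : Subgroup G} {W K L : G → Subgroup G} {x0 x1 x2 f t a b : G}

theorem W_gen0 (F : Frame U W K x0 x1 x2 f t a b) (h : Plane z U W K L) {w : G} (hw : w ∈ W x0) :
    ∃ u ∈ U, w = u ∨ w = a * u ∨ w = b * u ∨ w = a * b * u := by
  have i := F.ind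
  have hU := h.sq_U
  have key : ∀ g ∈ W x0, g ∈ K x1 → g ∈ K x2 → g ∈ U := by
    intro g hg h1 h2
    by_contra hgU
    exact h.fl_notMem (i.swap hU) ⟨hg, hgU, h2⟩ h1
  have a2 : a ∉ K x2 := by
    have j : Ind U x2 x0 x1 := (i.rot hU).rot hU
    exact h.fl_notMem j F.fa
  have b1 : b ∉ K x1 := h.fl_notMem (i.swap hU) F.fb
  have ha := F.fa.mem
  have hb := F.fb.mem
  have aa : a * a = 1 := h.sq_W _ i.p_mem i.p_ne _ ha
  have bb : b * b = 1 := h.sq_W _ i.p_mem i.p_ne _ hb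
  have c : ∀ {u v : G}, u ∈ W x0 → v ∈ W x0 → u * v = v * u := fun hu hv => h.comm_W i.p_mem i.p_ne hu hv
  have idx1 := h.fl_index _ i.p_mem i.p_ne _ i.q_mem i.q_ne i.pq
  have idx2 := h.fl_index _ i.p_mem i.p_ne _ i.w_mem i.w_ne i.pw
  by_cases h1 : w ∈ K x1 <;> by_cases h2 : w ∈ K x2
  · exact ⟨w, key w hw h1 h2, Or.inl rfl⟩
  · refine ⟨w * a, key _ (mul_mem hw ha) (mul_mem h1 F.fa.memK) (idx2 _ hw _ ha h2 a2), Or.inr (Or.inl ?_)⟩
    rw [c hw ha, ← mul_assoc, aa, one_mul]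
  · refine ⟨w * b, key _ (mul_mem hw hb) (idx1 _ hw _ hb h1 b1) (mul_mem h2 F.fb.memK),
      Or.inr (Or.inr (Or.inl ?_))⟩
    rw [c hw hb, ← mul_assoc, bb, one_mul]
  · refine ⟨w * b * a, key _ (mul_mem (mul_mem hw hb) ha) (mul_mem (idx1 _ hw _ hb h1 b1) F.fa.memK) ?_,
      Or.inr (Or.inr (Or.inr ?_))⟩
    · rw [mul_assoc, c hb ha, ← mul_assoc]
      exact mul_mem (idx2 _ hw _ ha h2 a2) F.fb.memK
    · rw [c (mul_mem hw hb) ha, c hw hb]
      calc w = a * a * w := by rw [aa, one_mul]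
        _ = a * (b * b) * (a * w) := by rw [bb, mul_one, mul_assoc]
        _ = a * b * (b * a) * w := by group
        _ = a * b * (a * b) * w := by rw [c hb ha]
        _ = _ := by group

theorem conj_pow_X (F : Frame U W K x0 x1 x2 f t a b) (h : Plane z U W K L) (j : ℕ) :
    f ^ j * x0 * (f ^ j)⁻¹ = io x0 x1 x2 (X j) := by
  induction j with
  | zero => simp [X, io]
  | succ j ih =>
    rw [X_succ, ← F.conj_f h, ← ih, pow_succ']
    group

/-- `W x = {1, a, b, ab} U` -/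
theorem W_gen (F : Frame U W K x0 x1 x2 f t a b) (h : Plane z U W K L) (j : ℕ) {w : G}
    (hw : w ∈ W (io x0 x1 x2 (X j))) :
    ∃ u ∈ U, w = u ∨ w = A f a j * u ∨ w = A f b j * u ∨ w = A f a j * A f b j * u := by
  have h1 : (f ^ j)⁻¹ * w * f ^ j ∈ W x0 := by
    have := conj_mem_cj (g := (f ^ j)⁻¹) hw
    rw [h.cj_W, ← F.conj_pow_X h j, inv_inv] at this
    have e : (f ^ j)⁻¹ * (f ^ j * x0 * (f ^ j)⁻¹) * f ^ j = x0 := by group
    rwa [e] at this
  obtain ⟨u, hu, h2⟩ := F.W_gen0 h h1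
  have h3 : f ^ j * u * (f ^ j)⁻¹ ∈ U := (h.nice_pow F.nf j).nU u hu
  have h4 : w = f ^ j * ((f ^ j)⁻¹ * w * f ^ j) * (f ^ j)⁻¹ := by group
  refine ⟨_, h3, ?_⟩
  rcases h2 with h2 | h2 | h2 | h2
  · left; rw [h4, h2]
  · right; left; rw [h4, h2]; unfold A; group
  · right; right; left; rw [h4, h2]; unfold A; group
  · right; right; right; rw [h4, h2]; unfold A; group

theorem good14 (F : Frame U W K x0 x1 x2 f t a b) (h : Plane z U W K L) : Good (io x0 x1 x2) (g14 f a b) T14 :=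
  F.good h _ fun k hk => by simpa using hk

theorem good8 (F : Frame U W K x0 x1 x2 f t a b) (h : Plane z U W K L) : Good (io x0 x1 x2) (g8 f a b) T8 := by
  rw [← T8_eq]
  exact F.good h _ (by decide)

theorem E_even (f a b : G) (j : ℕ) : E f a b (2 * j) = A f a j := by
  have h1 : 2 * j % 2 = 0 := by omega
  have h2 : 2 * j / 2 = j := by omega
  unfold E
  rw [h1, h2, if_pos rfl]

theorem E_odd (f a b : G) (j : ℕ) : E f a b (2 * j + 1) = A f b j := by
  have h1 : (2 * j + 1) % 2 = 1 := by omega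
  have h2 : (2 * j + 1) / 2 = j := by omega
  unfold E
  rw [h1, h2, if_neg (by norm_num)]

theorem E_mod (F : Frame U W K x0 x1 x2 f t a b) (k : ℕ) : E f a b (k % 14) = E f a b k := by
  have key : ∀ q r : ℕ, E f a b (r + 14 * q) = E f a b r := by
    intro q r
    induction q with
    | zero => rfl
    | succ q ih => rw [show r + 14 * (q + 1) = r + 14 * q + 14 by ring, E_fourteen F.f7, ih]
  conv_rhs => rw [← Nat.mod_add_div k 14]
  rw [key]

theorem E_cd (F : Frame U W K x0 x1 x2 f t a b) (h : Plane z U W K L) {k : ℕ} (hk : k < 14) :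
    Cd (io x0 x1 x2) (g14 f a b) (E f a b k) (2 ^ k) := by
  have e := elt_pow (g14 f a b) k
  have e2 : (g14 f a b).getD k 1 = E f a b k := by
    unfold g14
    interval_cases k <;> rfl
  rw [e2] at e
  rw [← e]
  exact Cd.elt (F.io_xor h) _

theorem U_cd (F : Frame U W K x0 x1 x2 f t a b) (h : Plane z U W K L) {gs : List G} {u : G} (hu : u ∈ U) :
    Cd (io x0 x1 x2) gs u 0 := by
  obtain ⟨n, -, rfl⟩ := F.io_surj h hu
  exact Cd.iota n

theorem code14 (F : Frame U W K x0 x1 x2 f t a b) (h : Plane z U W K L) {y : G} (hy : y ∈ YU U W) :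
    ∃ n, Cd (io x0 x1 x2) (g14 f a b) y n := by
  have hx := F.io_xor h
  have hT := F.good14 h
  induction hy using closure_induction with
  | mem w hw =>
    obtain ⟨p, hp, hp1, hw⟩ := hw
    obtain ⟨j, hj, rfl⟩ := F.exists_X h hp hp1
    obtain ⟨u, hu, e⟩ := F.W_gen h j hw
    have cu : Cd (io x0 x1 x2) (g14 f a b) u 0 := F.U_cd h hu
    have ca : Cd (io x0 x1 x2) (g14 f a b) (A f a j) (2 ^ (2 * j)) := by
      rw [← E_even f a b]; exact F.E_cd h (by omega)
    have cb : Cd (io x0 x1 x2) (g14 f a b) (A f b j) (2 ^ (2 * j + 1)) := by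
      rw [← E_odd f a b]; exact F.E_cd h (by omega)
    rcases e with rfl | rfl | rfl | rfl
    · exact ⟨_, cu⟩
    · exact ⟨_, ca.mul hx hT cu⟩
    · exact ⟨_, cb.mul hx hT cu⟩
    · exact ⟨_, (ca.mul hx hT cb).mul hx hT cu⟩
  | one => exact ⟨0, Cd.one hx⟩
  | mul a b _ _ iha ihb =>
    obtain ⟨n, hn⟩ := iha
    obtain ⟨m, hm⟩ := ihb
    exact ⟨_, hn.mul hx hT hm⟩
  | inv a _ ih =>
    obtain ⟨n, hn⟩ := ih
    exact ⟨n, hn.inv hx hT⟩

/-- an element of `Y` which commutes with the generators lies in `C(Y)` -/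
theorem mem_D_of (F : Frame U W K x0 x1 x2 f t a b) (h : Plane z U W K L) {c : G}
    (hU : ∀ u ∈ U, c * u = u * c) (hc : ∀ k < 14, c * E f a b k = E f a b k * c) :
    c ∈ centralizer (YU U W : Set G) := by
  rw [Plane.mem_D_iff]
  intro p hp hp1 w hw
  obtain ⟨j, hj, rfl⟩ := F.exists_X h hp hp1
  obtain ⟨u, hu, e⟩ := F.W_gen h j hw
  have c0 := hU u hu
  have c1 : c * A f a j = A f a j * c := by
    rw [← E_even f a b]; exact hc _ (by omega)
  have c2 : c * A f b j = A f b j * c := by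
    rw [← E_odd f a b]; exact hc _ (by omega)
  have m : ∀ {x y : G}, c * x = x * c → c * y = y * c → c * (x * y) = x * y * c := by
    intro x y e1 e2
    rw [← mul_assoc, e1, mul_assoc, e2, mul_assoc]
  rcases e with rfl | rfl | rfl | rfl
  exacts [c0, m c1 c0, m c2 c0, m (m c1 c2) c0]

theorem Rp_conj (F : Frame U W K x0 x1 x2 f t a b) (h : Plane z U W K L) (i : ℕ) :
    List.Forall₂ (fun x r => Cd (io x0 x1 x2) (g14 f a b) (f ^ i * x * (f ^ i)⁻¹) r) (g14 f a b) (Rp i) := by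
  unfold g14 Rp
  rw [List.forall₂_map_left_iff, List.forall₂_map_right_iff, List.forall₂_same]
  intro k _
  have e : ∀ i, f ^ i * E f a b k * (f ^ i)⁻¹ = E f a b (k + 2 * i) := by
    intro i
    induction i with
    | zero => simp
    | succ i ih =>
      rw [show k + 2 * (i + 1) = k + 2 * i + 2 by ring, E_two, ← ih, pow_succ']
      group
  rw [e, ← F.E_mod]
  exact F.E_cd h (Nat.mod_lt _ (by norm_num))

theorem conj_pow_io (F : Frame U W K x0 x1 x2 f t a b) (h : Plane z U W K L) (i m : ℕ) :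
    ∃ m', f ^ i * io x0 x1 x2 m * (f ^ i)⁻¹ = io x0 x1 x2 m' := by
  obtain ⟨n, -, e⟩ := F.io_surj h ((h.nice_pow F.nf i).nU _ (F.io_mem m))
  exact ⟨n, e⟩

theorem norm_cd (F : Frame U W K x0 x1 x2 f t a b) (h : Plane z U W K L) {y : G} {n : ℕ}
    (hy : Cd (io x0 x1 x2) (g14 f a b) y n) (j : ℕ) :
    Cd (io x0 x1 x2) (g14 f a b) (Nm f j y) (dot (NL j) n) := by
  have hx := F.io_xor h
  have hT := F.good14 h
  induction j with
  | zero =>
    have : dot (NL 0) n = 0 := dot_rep _ _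
    rw [this]; exact Cd.one hx
  | succ j ih =>
    have e : dot (NL (j + 1)) n = dot (NL j) n ^^^ dot (Rp j) n := by
      rw [dot_zip _ _ (by rw [NL_length]; simp [Rp])]
      rfl
    rw [e]
    exact ih.mul hx hT (hy.conj hx hT (F.Rp_conj h j) (F.conj_pow_io h j))

theorem Bf_lt {T : List (List ℕ)} (hT : ∀ r ∈ T, ∀ c ∈ r, c < 8) (m n : ℕ) : Bf T m n < 8 := by
  induction T generalizing m n with
  | nil => simp [Bf]
  | cons r T ih =>
    have h1 : ∀ n, dot r n < 8 := fun n => dot_closed (· < 8) (by norm_num) (fun a b ha hb => xor_lt ha hb) r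
      (hT r (List.mem_cons_self ..)) n
    simp only [Bf]
    refine xor_lt ?_ (xor_lt ?_ (ih (fun r hr => hT r (List.mem_cons_of_mem _ hr)) _ _))
    all_goals
      split_ifs
      exacts [h1 _, by norm_num]

theorem Bf14_lt (m n : ℕ) : Bf T14 m n < 8 := Bf_lt (by decide +kernel) m n

theorem Bf8_lt (m n : ℕ) : Bf T8 m n < 8 := Bf_lt (by decide +kernel) m n

/-- `Y ∩ C(Y) = U` -/
theorem Y_inf_D (F : Frame U W K x0 x1 x2 f t a b) (h : Plane z U W K L) {y : G} (hy : y ∈ YU U W)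
    (hd : y ∈ centralizer (YU U W : Set G)) : y ∈ U := by
  have hx := F.io_xor h
  have hT := F.good14 h
  obtain ⟨n, hn⟩ := F.code14 h hy
  have hN := F.norm_cd h hn 7
  -- the norm centralises `Y`
  have hND : Nm f 7 y ∈ centralizer (YU U W : Set G) :=
    Nm_mem (fun s hs => h.conj_D F.nf.nU' hs) 7 hd
  have hsq : y * y ∈ U := by
    rw [hn.sq hx hT]; exact F.io_mem _
  have h7 : Nm f 7 y * (y ^ 7)⁻¹ ∈ U := by
    refine Nm_mod F.nf.nU (fun u hu => ?_) (F.nf.D y hd) 7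
    rw [h.Y_comm hy hu, mul_inv_cancel_right]; exact hu
  -- the code of the norm
  have hc : dot (NL 7) n = 0 ∨ dot (NL 7) n = 5461 ∨ dot (NL 7) n = 10922 ∨ dot (NL 7) n = 16383 := by
    rw [NL_seven]
    refine dot_closed (fun c => c = 0 ∨ c = 5461 ∨ c = 10922 ∨ c = 16383) (Or.inl rfl) ?_ _ ?_ n
    · intro a b ha hb
      rcases ha with rfl | rfl | rfl | rfl <;> rcases hb with rfl | rfl | rfl | rfl <;> decide
    · decide
  have hz : dot (NL 7) n = 0 := by
    have hE := F.E_cd h (k := 0) (by norm_num)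
    have e := hN.comm hx hT hE
    have e1 : Nm f 7 y * E f a b 0 = E f a b 0 * Nm f 7 y := Plane.mem_D.1 hND _ (F.E_Y h 0)
    rw [e1] at e
    have e2 : io x0 x1 x2 (Bf T14 (dot (NL 7) n) (2 ^ 0)) = 1 := (left_eq_mul.1 e)
    have e3 := (F.io_eq_one h (Bf14_lt _ _)).1 e2
    rcases hc with hc | hc | hc | hc
    · exact hc
    all_goals
      rw [hc] at e3
      exfalso
      revert e3
      decide +kernel
  rw [hz] at hN
  obtain ⟨m, hm⟩ := hN
  rw [elt_zero, one_mul] at hm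
  have e7 : y ^ 7 = y * (y * y) * (y * y) * (y * y) := by
    simp only [pow_succ, pow_zero, one_mul, mul_assoc]
  have e8 : y = (Nm f 7 y * (y ^ 7)⁻¹)⁻¹ * Nm f 7 y * ((y * y) * (y * y) * (y * y))⁻¹ := by
    rw [mul_inv_rev, inv_inv, inv_mul_cancel_right, e7]; group
  rw [e8, hm]
  exact mul_mem (mul_mem (inv_mem (by rw [← hm]; exact h7)) (F.io_mem _))
    (inv_mem (mul_mem (mul_mem hsq hsq) hsq))

/-- an element of `Y` whose code is in the radical lies in `U` -/
theorem mem_U_of_code (F : Frame U W K x0 x1 x2 f t a b) (h : Plane z U W K L) {y : G} {n : ℕ}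
    (hn : Cd (io x0 x1 x2) (g14 f a b) y n) (h0 : ∀ l < 14, Bf T14 n (2 ^ l) = 0) : y ∈ U := by
  have hx := F.io_xor h
  have hT := F.good14 h
  have hy : y ∈ YU U W := by
    refine hn.mem_of (fun m => h.U_le_Y (F.io_mem m)) ?_
    intro g hg
    obtain ⟨k, -, rfl⟩ := List.mem_map.1 hg
    exact F.E_Y h k
  refine F.Y_inf_D h hy (F.mem_D_of h (fun u hu => h.Y_comm hy hu) ?_)
  intro k hk
  have e := hn.comm hx hT (F.E_cd h hk)
  rw [h0 k hk, io_zero, mul_one] at e
  exact e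

theorem E8_pos (F : Frame U W K x0 x1 x2 f t a b) (h : Plane z U W K L) {i : ℕ} (hi : i < 8) :
    Cd (io x0 x1 x2) (g8 f a b) (E f a b (ks8.getD i 0)) (2 ^ i) := by
  have e := elt_pow (g8 f a b) i
  have e2 : (g8 f a b).getD i 1 = E f a b (ks8.getD i 0) := by
    unfold g8 ks8
    interval_cases i <;> rfl
  rw [e2] at e
  rw [← e]
  exact Cd.elt (F.io_xor h) _

/-- the positions of the basis -/
def P8 : List ℕ := [1, 2, 4, 8, 16, 32, 64, 256]

theorem g8_g14 (F : Frame U W K x0 x1 x2 f t a b) (h : Plane z U W K L) :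
    List.Forall₂ (fun x r => Cd (io x0 x1 x2) (g14 f a b) x r) (g8 f a b) P8 := by
  unfold g8
  rw [List.forall₂_map_left_iff]
  have : List.Forall₂ (fun k r => k < 14 ∧ r = 2 ^ k) ks8 P8 := by decide
  refine this.imp ?_
  rintro k r ⟨hk, rfl⟩
  exact F.E_cd h hk

theorem E_cd8 (F : Frame U W K x0 x1 x2 f t a b) (h : Plane z U W K L) {k : ℕ} (hk : k < 14) :
    Cd (io x0 x1 x2) (g8 f a b) (E f a b k) (R8.getD k 0) := by
  have hx := F.io_xor h
  have hT := F.good14 h
  have hT8 := F.good8 h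
  set r := R8.getD k 0 with hr
  have c8 : Cd (io x0 x1 x2) (g8 f a b) (elt (g8 f a b) r) r := Cd.elt hx _
  have c14 : Cd (io x0 x1 x2) (g14 f a b) (elt (g8 f a b) r) (dot P8 r) := c8.subst hx hT (F.g8_g14 h)
  have e14 := (F.E_cd h hk).mul hx hT (c14.inv hx hT)
  have hU : E f a b k * (elt (g8 f a b) r)⁻¹ ∈ U := by
    refine F.mem_U_of_code h e14 ?_
    have : ∀ k < 14, ∀ l < 14, Bf T14 (2 ^ k ^^^ dot P8 (R8.getD k 0)) (2 ^ l) = 0 := by decide +kernel
    exact this k hk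
  have e8 := (F.U_cd h (gs := g8 f a b) hU).mul hx hT8 c8
  rwa [inv_mul_cancel_right, Nat.zero_xor] at e8

/-- codes in the basis -/
theorem code8 (F : Frame U W K x0 x1 x2 f t a b) (h : Plane z U W K L) {y : G} (hy : y ∈ YU U W) :
    ∃ n < 256, Cd (io x0 x1 x2) (g8 f a b) y n := by
  have hx := F.io_xor h
  have hT8 := F.good8 h
  obtain ⟨n, hn⟩ := F.code14 h hy
  refine ⟨dot R8 n, ?_, ?_⟩
  · exact dot_closed (· < 256) (by norm_num) (fun a b ha hb => Nat.xor_lt_two_pow (n := 8) ha hb) R8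
      (by decide) n
  · refine hn.subst hx hT8 ?_
    unfold g14
    rw [List.forall₂_map_left_iff]
    have : List.Forall₂ (fun k r => k < 14 ∧ r = R8.getD k 0) (List.range 14) R8 := by decide
    refine this.imp ?_
    rintro k r ⟨hk, rfl⟩
    exact F.E_cd8 h hk

theorem mem_Y_of_code (F : Frame U W K x0 x1 x2 f t a b) (h : Plane z U W K L) {y : G} {n : ℕ}
    (hn : Cd (io x0 x1 x2) (g8 f a b) y n) : y ∈ YU U W := by
  refine hn.mem_of (fun m => h.U_le_Y (F.io_mem m)) ?_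
  intro g hg
  obtain ⟨k, -, rfl⟩ := List.mem_map.1 hg
  exact F.E_Y h k

/-- the code of an element of `U` -/
theorem code_U (F : Frame U W K x0 x1 x2 f t a b) (h : Plane z U W K L) {y : G} {n : ℕ} (hn : n < 256)
    (hy : Cd (io x0 x1 x2) (g8 f a b) y n) : y ∈ U ↔ n = 0 := by
  have hx := F.io_xor h
  have hT8 := F.good8 h
  constructor
  · intro hU
    have key : ∀ n < 256, (∀ i < 8, Bf T8 n (2 ^ i) = 0) → n = 0 := by decide +kernel
    refine key n hn fun i hi => ?_
    have hE := F.E8_pos h hi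
    have e := hy.comm hx hT8 hE
    rw [← h.Y_comm (F.mem_Y_of_code h hE) hU] at e
    exact (F.io_eq_one h (Bf8_lt _ _)).1 (left_eq_mul.1 e)
  · rintro rfl
    obtain ⟨m, hm⟩ := hy
    rw [elt_zero, one_mul] at hm
    rw [hm]; exact F.io_mem m

/-- codes are unique -/
theorem code_unique (F : Frame U W K x0 x1 x2 f t a b) (h : Plane z U W K L) {y : G} {m n : ℕ} (hm : m < 256)
    (hn : n < 256) (h1 : Cd (io x0 x1 x2) (g8 f a b) y m) (h2 : Cd (io x0 x1 x2) (g8 f a b) y n) : m = n := by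
  have hx := F.io_xor h
  have hT8 := F.good8 h
  have e := h1.mul hx hT8 (h2.inv hx hT8)
  rw [mul_inv_cancel] at e
  have := (F.code_U h (Nat.xor_lt_two_pow (n := 8) hm hn) e).1 (one_mem _)
  exact Nat.xor_eq_zero_iff.1 this

/-- `f` on codes -/
def F8 : List ℕ := [4, 8, 16, 32, 64, 73, 128, 218]

theorem conj_f8 (F : Frame U W K x0 x1 x2 f t a b) (h : Plane z U W K L) {y : G} {n : ℕ}
    (hy : Cd (io x0 x1 x2) (g8 f a b) y n) : Cd (io x0 x1 x2) (g8 f a b) (f * y * f⁻¹) (dot F8 n) := by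
  refine hy.conj (F.io_xor h) (F.good8 h) ?_ fun m => ⟨_, F.conj_f h m⟩
  unfold g8
  rw [List.forall₂_map_left_iff]
  have : List.Forall₂ (fun k r => k + 2 < 14 ∧ r = R8.getD (k + 2) 0) ks8 F8 := by decide
  refine this.imp ?_
  rintro k r ⟨hk, rfl⟩
  rw [← E_two]
  exact F.E_cd8 h hk

end Frame

end Cfsg.Agent.Omega.NOThree.Ru
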